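import Groth.Prelude.Def_Algz

/-! Mittag-Leffler from pro-isomorphism with a strict system. -/

set_option autoImplicit false

universe v v' u u'

open CategoryTheory CategoryTheory.Limits Opposite

noncomputable section

namespace Groth.L12.Algz

variable {C : Type u} [Category.{v} C]

theorem tr_tr (X : ARSys.PS C) {a b c : ℕ} (h₁ : a ≤ b) (h₂ : b ≤ c) :
    ARSys.tr X h₂ ≫ ARSys.tr X h₁ = ARSys.tr X (h₁.trans h₂) := by
  rw [ARSys.tr, ARSys.tr, ARSys.tr, ← X.map_comp]
  exact congrArg X.map (Subsingleton.elim _ _)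

theorem imageSubobject_le_of_comp_cokernel [Abelian C] {A A' B : C} (f : A ⟶ B) (g : A' ⟶ B)
    (h : f ≫ cokernel.π g = 0) : imageSubobject f ≤ imageSubobject g := by
  have h0 : (imageSubobject g).arrow ≫ cokernel.π g = 0 := by
    rw [← cancel_epi (factorThruImageSubobject g), comp_zero, ← Category.assoc, imageSubobject_arrow_comp,
      cokernel.condition]
  have hf : f ≫ cokernel.π (imageSubobject g).arrow = 0 := by
    obtain ⟨t, ht⟩ : ∃ t, cokernel.π g ≫ t = cokernel.π (imageSubobject g).arrow :=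
      ⟨cokernel.desc g _ ((congrArg (· ≫ cokernel.π (imageSubobject g).arrow) (imageSubobject_arrow_comp g)).symm.trans
        (by rw [Category.assoc, cokernel.condition, comp_zero])),
        cokernel.π_desc _ _ _⟩
    rw [← ht, ← Category.assoc, h, zero_comp]
  exact imageSubobject_le f (Abelian.monoLift _ f hf) (Abelian.monoLift_comp _ f hf)

/-- The core of the argument, with all transition maps made explicit. -/
theorem exists_bound_kill {D : Type u'} [Category.{v'} D] [HasZeroMorphisms D] (Z Y : ARSys.PS D) {m : ℕ → ℕ}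
    (hm : Monotone m) (hle : ∀ n, n ≤ m n) (hY : ARSys.IsStrict Y) (a : ∀ k, Z.obj (op (m k)) ⟶ Y.obj (op k))
    (hnat : ∀ {p q : ℕ} (h : p ≤ q), a q ≫ ARSys.tr Y h = ARSys.tr Z (hm h) ≫ a p)
    (hpro : ∀ k, ∃ (M : ℕ) (h : k ≤ M) (b : Y.obj (op M) ⟶ Z.obj (op (m k))),
      a M ≫ b = ARSys.tr Z (hm h) ∧ b ≫ a k = ARSys.tr Y h) (n : ℕ) :
    ∃ (B : ℕ) (hB : n ≤ B), ∀ (S : ℕ) (hS : n ≤ S) (W : D) (z : Z.obj (op n) ⟶ W),
      ARSys.tr Z hS ≫ z = 0 → ARSys.tr Z hB ≫ z = 0 := by
  obtain ⟨M, hM, b, hb, -⟩ := hpro n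
  refine ⟨m M, hM.trans (hle M), fun S hS W z hz => ?_⟩
  have key : b ≫ ARSys.tr Z (hle n) ≫ z = 0 := by
    obtain ⟨K, hK, c, -, hc⟩ := hpro (S + M)
    haveI := hY M K (le_trans (Nat.le_add_left M S) hK)
    rw [← cancel_epi (ARSys.tr Y (le_trans (Nat.le_add_left M S) hK)), comp_zero,
      ← tr_tr Y (Nat.le_add_left M S) hK, ← hc]
    simp only [Category.assoc]
    rw [reassoc_of% (hnat (Nat.le_add_left M S)), reassoc_of% hb, reassoc_of% (tr_tr Z),
      reassoc_of% (tr_tr Z)]
    rw [← tr_tr Z hS ((Nat.le_add_right S M).trans (hle (S + M))), Category.assoc, hz, comp_zero, comp_zero]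
  rw [← tr_tr Z (hle n) (hm hM), ← hb, Category.assoc, Category.assoc, key, comp_zero]

/-- A system whose image under a faithful functor is pro-isomorphic to a strict system is
Mittag-Leffler. -/
theorem isML_of_isProIsomorphic {D : Type u'} [Abelian C] [Category.{v'} D] [HasZeroMorphisms D]
    (T : C ⥤ D) [T.Faithful] [T.PreservesZeroMorphisms] (X : ARSys.PS C) (Y : ARSys.PS D) (hY : ARSys.IsStrict Y)
    (h : _root_.Algz.IsProIsomorphic (X ⋙ T) Y) : ARSys.IsML X := by
  obtain ⟨m, hm, hle, a, ha⟩ := h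
  intro n
  obtain ⟨B, hB, hkill⟩ := exists_bound_kill (X ⋙ T) Y hm hle hY (fun k => a.app (op k))
    (fun {p q} h => (a.naturality (homOfLE h).op).symm) (fun k => ha k) n
  obtain ⟨r, rfl⟩ := Nat.exists_eq_add_of_le hB
  refine ⟨r, fun s hs => le_antisymm ?_ ?_⟩
  · have e : ARSys.tr X (Nat.add_le_add_left hs n) ≫ ARSys.shiftMap X r n = ARSys.shiftMap X s n := tr_tr X _ _
    refine imageSubobject_le_of_comp_cokernel _ _ ?_
    calc ARSys.shiftMap X s n ≫ cokernel.π (ARSys.shiftMap X r n)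
        = ARSys.tr X (Nat.add_le_add_left hs n) ≫ ARSys.shiftMap X r n ≫ cokernel.π (ARSys.shiftMap X r n) :=
          (congrArg (· ≫ _) e).symm.trans (Category.assoc _ _ _)
      _ = 0 := (congrArg (_ ≫ ·) (cokernel.condition _)).trans comp_zero
  · refine imageSubobject_le_of_comp_cokernel _ _ (T.map_injective ?_)
    exact (T.map_comp _ _).trans ((hkill (n + s) (Nat.le_add_right n s) _ (T.map (cokernel.π (ARSys.shiftMap X s n)))
      ((T.map_comp _ _).symm.trans ((congrArg T.map (cokernel.condition _)).trans (T.map_zero _ _)))).trans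
      (T.map_zero _ _).symm)

end Groth.L12.Algz
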