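import Groth.Agent.L12.Algz.ProSys
import Groth.Agent.L16.Exist.Systems
import Groth.Agent.L03.QcOpenExtend

/-! Extensions of coherent formal modules from an open of an affine scheme. -/

set_option autoImplicit false
set_option linter.style.haveILetI false
set_option backward.isDefEq.respectTransparency false
set_option backward.isDefEq.respectTransparency.types false

universe v v' u u'

open CategoryTheory CategoryTheory.Limits AlgebraicGeometry Opposite

noncomputable section

namespace Groth.L12.Algz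

open Formal (smulMod smulFamily modPow modPowπ modPowTrans modPowπ_trans)
open Groth.L16

section Pro

variable {C : Type u} [Category.{v} C] {D : Type u'} [Category.{v'} D]

theorem isProIsomorphic_map (F : C ⥤ D) {X Y : ARSys.PS C} (h : _root_.Algz.IsProIsomorphic X Y) :
    _root_.Algz.IsProIsomorphic (X ⋙ F) (Y ⋙ F) := by
  obtain ⟨m, hm, hle, a, ha⟩ := h
  refine ⟨m, hm, hle, Functor.whiskerRight a F, fun n => ?_⟩
  obtain ⟨M, hM, b, h1, h2⟩ := ha n
  exact ⟨M, hM, F.map b, (F.map_comp _ _).symm.trans (congrArg F.map h1),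
    (F.map_comp _ _).symm.trans (congrArg F.map h2)⟩

theorem isProIsomorphic_of_iso {X X' Y Y' : ARSys.PS C} (e : X' ≅ X) (f : Y ≅ Y')
    (h : _root_.Algz.IsProIsomorphic X Y) : _root_.Algz.IsProIsomorphic X' Y' := by
  obtain ⟨m, hm, hle, a, ha⟩ := h
  let e' : DerCA.reindex X' hm ≅ DerCA.reindex X hm := Functor.isoWhiskerLeft _ e
  refine ⟨m, hm, hle, e'.hom ≫ a ≫ f.hom, fun n => ?_⟩
  obtain ⟨M, hM, b, h1, h2⟩ := ha n
  refine ⟨M, hM, f.inv.app (op M) ≫ b ≫ e'.inv.app (op n), ?_, ?_⟩
  · simp only [NatTrans.comp_app, Category.assoc, Iso.hom_inv_id_app_assoc]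
    rw [reassoc_of% h1]
    exact (congrArg (_ ≫ ·) (e'.inv.naturality (homOfLE hM).op)).trans (Iso.hom_inv_id_app_assoc e' _ _)
  · simp only [NatTrans.comp_app, Category.assoc, Iso.inv_hom_id_app_assoc]
    rw [reassoc_of% h2]
    exact (congrArg (_ ≫ ·) (f.hom.naturality (homOfLE hM).op)).trans (Iso.inv_hom_id_app_assoc f _ _)

end Pro

section IsoInv

variable {A : Type u} [CommRing A] {X : Scheme.{u}} [X.Over (Spec (CommRingCat.of A))] {I : Ideal A}

theorem isCohFormal_of_iso {G H : ℕᵒᵖ ⥤ X.Modules} (e : G ≅ H) (hG : Formal.IsCohFormal I G) :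
    Formal.IsCohFormal I H := by
  refine ⟨fun n => Groth.L03.QcOpenExtend.isCoh_of_iso (e.app (op n)).symm (hG.1 n), fun n b hb => ?_, fun n => ?_⟩
  · rw [← cancel_epi (e.hom.app (op n)), comp_zero, ← Rees.smulMod_naturality, hG.2.1 n b hb, zero_comp]
  · obtain ⟨h0, hiso⟩ := hG.2.2 n
    let δ : modPow I (n + 1) (G.obj (op (n + 1))) ⟶ G.obj (op n) := cokernel.desc _ _ h0
    haveI : IsIso δ := hiso
    have h1 : smulFamily (I ^ (n + 1)) (H.obj (op (n + 1))) ≫ H.map (homOfLE (Nat.le_succ n)).op = 0 := by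
      apply Sigma.hom_ext
      intro b
      rw [comp_zero, smulFamily, Sigma.ι_desc_assoc, ← cancel_epi (e.hom.app (op (n + 1))), comp_zero,
        ← Category.assoc, ← Rees.smulMod_naturality, Category.assoc, ← e.hom.naturality, ← Category.assoc,
        Rees.smulMod_naturality, Category.assoc, hG.2.1 n b b.2, zero_comp, comp_zero]
    refine ⟨h1, ?_⟩
    have hr : ∀ a ∈ I ^ (n + 1),
        smulMod A (G.obj (op (n + 1))) a ≫ e.hom.app (op (n + 1)) ≫ modPowπ I (n + 1) (H.obj (op (n + 1))) = 0 :=
      fun a ha => by rw [← Category.assoc, Rees.smulMod_naturality, Category.assoc, Rees.smulMod_modPowπ I _ ha, comp_zero]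
    have hs : ∀ a ∈ I ^ (n + 1),
        smulMod A (H.obj (op (n + 1))) a ≫ e.inv.app (op (n + 1)) ≫ modPowπ I (n + 1) (G.obj (op (n + 1))) = 0 :=
      fun a ha => by rw [← Category.assoc, Rees.smulMod_naturality, Category.assoc, Rees.smulMod_modPowπ I _ ha, comp_zero]
    obtain ⟨r, hr'⟩ := Existence.modPow_desc I _ hr
    obtain ⟨s, hs'⟩ := Existence.modPow_desc I _ hs
    haveI := Existence.epi_modPowπ I (n + 1) (G.obj (op (n + 1)))
    haveI := Existence.epi_modPowπ I (n + 1) (H.obj (op (n + 1)))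
    let ε : modPow I (n + 1) (H.obj (op (n + 1))) ≅ modPow I (n + 1) (G.obj (op (n + 1))) :=
      ⟨s, r, by rw [← cancel_epi (modPowπ I (n + 1) (H.obj (op (n + 1)))), reassoc_of% hs', hr',
          Iso.inv_hom_id_app_assoc, Category.comp_id],
        by rw [← cancel_epi (modPowπ I (n + 1) (G.obj (op (n + 1)))), reassoc_of% hr', hs',
          Iso.hom_inv_id_app_assoc, Category.comp_id]⟩
    have : cokernel.desc (smulFamily (I ^ (n + 1)) (H.obj (op (n + 1)))) _ h1 =
        ε.hom ≫ δ ≫ e.hom.app (op n) := by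
      refine (cancel_epi (modPowπ I (n + 1) (H.obj (op (n + 1))))).1 ((cokernel.π_desc _ _ h1).trans ?_)
      rw [show ε.hom = s from rfl, reassoc_of% hs',
        reassoc_of% (show modPowπ I (n + 1) (G.obj (op (n + 1))) ≫ δ = _ from cokernel.π_desc _ _ h0),
        e.hom.naturality, Iso.inv_hom_id_app_assoc]
    show IsIso (cokernel.desc _ _ h1)
    rw [this]
    exact IsIso.comp_isIso' ε.isIso_hom (IsIso.comp_isIso' hiso (e.app (op n)).isIso_hom)

end IsoInv

section Affine

variable (A : Type u) [CommRing A] (U : (Spec (CommRingCat.of A)).Opens)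

local instance : (Spec (CommRingCat.of A)).Over (Spec (CommRingCat.of A)) := ⟨𝟙 _⟩

theorem ι_over : U.ι ≫ (Spec (CommRingCat.of A) ↘ Spec (CommRingCat.of A)) =
    (U : Scheme.{u}) ↘ Spec (CommRingCat.of A) := Category.comp_id _

theorem isCohFormal_restrict [IsNoetherianRing A] {I : Ideal A} {G : ℕᵒᵖ ⥤ (Spec (CommRingCat.of A)).Modules}
    (hG : Formal.IsCohFormal I G) : Formal.IsCohFormal I (_root_.Algz.restrictSys U G) := by
  haveI : IsNoetherianRing (CommRingCat.of A) := ‹_›
  exact isCohFormal_of_iso (Functor.isoWhiskerLeft G (Scheme.Modules.restrictFunctorIsoPullback U.ι).symm)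
    (Exist.isCohFormal_pullback I U.ι (ι_over A U) hG)

/-- `H⁰(U, G_n)~` restricts to `G_n`. -/
theorem nonempty_restrict_sectSys_iso (hU : IsCompact (U : Set (Spec (CommRingCat.of A))))
    (G : ℕᵒᵖ ⥤ (U : Scheme.{u}).Modules) (hG : ∀ n, Coh.IsQCoh (G.obj (op n))) :
    Nonempty (_root_.Algz.restrictSys U (_root_.Algz.sectSys A U G) ≅ G) := by
  let R := Scheme.Modules.restrictFunctor U.ι
  let P := Scheme.Modules.pushforward U.ι
  let α : _root_.Algz.sectSys A U G ⟶ G ⋙ P :=
    Functor.whiskerLeft (G ⋙ P) (Scheme.Modules.fromTildeΓNatTrans (R := CommRingCat.of A))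
  haveI : ∀ k, IsIso (α.app k) := fun k => by
    haveI : Coh.IsQCoh (P.obj (G.obj k)) :=
      @Groth.L03.QcOpenExtend.isQCoh_push_ι (CommRingCat.of A) U hU _ (hG k.unop)
    exact Scheme.Modules.isIso_fromTildeΓ_of_isQuasicoherent (P.obj (G.obj k))
  haveI : IsIso α := NatIso.isIso_of_isIso_app α
  exact ⟨Functor.isoWhiskerRight (asIso α) R ≪≫
    Functor.isoWhiskerLeft G (asIso (Scheme.Modules.restrictAdjunction U.ι).counit) ≪≫ G.rightUnitor⟩

/-- A coherent formal module which extends canonically extends. -/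
theorem extends_of_canonicallyExtends [IsNoetherianRing A] {I : Ideal A}
    {G : ℕᵒᵖ ⥤ (U : Scheme.{u}).Modules} (hG : Formal.IsCohFormal I G)
    (h : _root_.Algz.CanonicallyExtends A I U G) : _root_.Algz.Extends I U G := by
  obtain ⟨G', hG', hp⟩ := h
  haveI : TopologicalSpace.NoetherianSpace (Spec (CommRingCat.of A)) :=
    inferInstanceAs (TopologicalSpace.NoetherianSpace (PrimeSpectrum A))
  obtain ⟨e⟩ := nonempty_restrict_sectSys_iso A U (TopologicalSpace.NoetherianSpace.isCompact _) G
    fun n => (hG.1 n).1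
  obtain ⟨i⟩ := nonempty_iso hG (isCohFormal_restrict A U hG')
    (isProIsomorphic_of_iso e.symm (Iso.refl _) (isProIsomorphic_map (Scheme.Modules.restrictFunctor U.ι) hp))
  exact ⟨G', hG', ⟨i.symm⟩⟩

end Affine

section Completion

variable {A : Type u} [CommRing A] {X Z : Scheme.{u}} [X.Over (Spec (CommRingCat.of A))]
  [Z.Over (Spec (CommRingCat.of A))] (I : Ideal A)

/-- Completion commutes with pullback. -/
theorem nonempty_completion_pullback_iso (i : Z ⟶ X)
    (hi : i ≫ (X ↘ Spec (CommRingCat.of A)) = Z ↘ Spec (CommRingCat.of A)) (M : X.Modules) :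
    Nonempty (Formal.completion I M ⋙ Scheme.Modules.pullback i ≅
      Formal.completion I ((Scheme.Modules.pullback i).obj M)) := by
  let P := Scheme.Modules.pullback i
  choose θ hθ using fun n => Existence.exists_pullback_modPowIso (I := I) i hi M (n + 1)
  refine Existence.nonempty_iso_of_sequence (fun n => (θ n).symm) fun n => ?_
  haveI := Existence.epi_modPowπ I (n + 1 + 1) M
  haveI : P.IsLeftAdjoint := (Scheme.Modules.pullbackPushforwardAdjunction i).isLeftAdjoint
  haveI : Epi (P.map (modPowπ I (n + 1 + 1) M)) := Functor.map_epi _ _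
  rw [show (Formal.completion I (P.obj M)).map (homOfLE (Nat.le_succ n)).op = modPowTrans I (n + 1) (P.obj M)
    from Existence.completion_tr I (P.obj M) n]
  show P.map ((Formal.completion I M).map (homOfLE (Nat.le_succ n)).op) ≫ (θ n).inv = (θ (n + 1)).inv ≫ _
  rw [show (Formal.completion I M).map (homOfLE (Nat.le_succ n)).op = modPowTrans I (n + 1) M
    from Existence.completion_tr I M n, ← cancel_epi (P.map (modPowπ I (n + 1 + 1) M))]
  have h1 : P.map (modPowπ I (n + 1 + 1) M) ≫ (θ (n + 1)).inv = modPowπ I (n + 1 + 1) (P.obj M) := by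
    rw [← hθ (n + 1), Category.assoc, Iso.hom_inv_id, Category.comp_id]
  rw [reassoc_of% h1, modPowπ_trans, ← P.map_comp_assoc, modPowπ_trans, ← hθ n, Category.assoc, Iso.hom_inv_id,
    Category.comp_id]

omit [Z.Over (Spec (CommRingCat.of A))] in
/-- Completion respects isomorphisms. -/
theorem nonempty_completion_iso {M N : X.Modules} (e : M ≅ N) :
    Nonempty (Formal.completion I M ≅ Formal.completion I N) := by
  have : ∀ n, ∃ t : modPow I (n + 1) M ≅ modPow I (n + 1) N,
      modPowπ I (n + 1) M ≫ t.hom = e.hom ≫ modPowπ I (n + 1) N := fun n => by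
    obtain ⟨r, hr⟩ := Existence.modPow_desc I (n := n + 1) (e.hom ≫ modPowπ I (n + 1) N) fun b hb => by
      rw [← Category.assoc, Rees.smulMod_naturality, Category.assoc, Rees.smulMod_modPowπ I _ hb, comp_zero]
    obtain ⟨s, hs⟩ := Existence.modPow_desc I (n := n + 1) (e.inv ≫ modPowπ I (n + 1) M) fun b hb => by
      rw [← Category.assoc, Rees.smulMod_naturality, Category.assoc, Rees.smulMod_modPowπ I _ hb, comp_zero]
    haveI := Existence.epi_modPowπ I (n + 1) M
    haveI := Existence.epi_modPowπ I (n + 1) N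
    exact ⟨⟨r, s, by rw [← cancel_epi (modPowπ I (n + 1) M), reassoc_of% hr, hs, Iso.hom_inv_id_assoc, Category.comp_id],
      by rw [← cancel_epi (modPowπ I (n + 1) N), reassoc_of% hs, hr, Iso.inv_hom_id_assoc, Category.comp_id]⟩, hr⟩
  choose t ht using this
  refine Existence.nonempty_iso_of_sequence t fun n => ?_
  haveI := Existence.epi_modPowπ I (n + 1 + 1) M
  rw [show (Formal.completion I M).map (homOfLE (Nat.le_succ n)).op = modPowTrans I (n + 1) M
    from Existence.completion_tr I M n, show (Formal.completion I N).map (homOfLE (Nat.le_succ n)).op =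
      modPowTrans I (n + 1) N from Existence.completion_tr I N n]
  rw [← cancel_epi (modPowπ I (n + 1 + 1) M), ← Category.assoc, modPowπ_trans, ht, reassoc_of% ht,
    modPowπ_trans]

end Completion

section Affine2

variable (A : Type u) [CommRing A] (U : (Spec (CommRingCat.of A)).Opens)

local instance : (Spec (CommRingCat.of A)).Over (Spec (CommRingCat.of A)) := ⟨𝟙 _⟩

theorem nonempty_restrict_completion_iso (I : Ideal A) (M : (Spec (CommRingCat.of A)).Modules) :
    Nonempty (_root_.Algz.restrictSys U (Formal.completion I M) ≅ Formal.completion I (M.restrict U.ι)) := by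
  obtain ⟨e⟩ := nonempty_completion_pullback_iso I U.ι (ι_over A U) M
  obtain ⟨f⟩ := nonempty_completion_iso I ((Scheme.Modules.restrictFunctorIsoPullback U.ι).app M).symm
  exact ⟨Functor.isoWhiskerLeft _ (Scheme.Modules.restrictFunctorIsoPullback U.ι) ≪≫ e ≪≫ f⟩

/-- Completions of coherent modules on an open extend. -/
theorem extends_completion [IsNoetherianRing A] (I : Ideal A) {F : (U : Scheme.{u}).Modules} (hF : Coh.IsCoh F)
    {G : ℕᵒᵖ ⥤ (U : Scheme.{u}).Modules} (e : Formal.completion I F ≅ G) : _root_.Algz.Extends I U G := by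
  haveI : IsNoetherianRing (CommRingCat.of A) := ‹_›
  haveI : TopologicalSpace.NoetherianSpace (Spec (CommRingCat.of A)) :=
    inferInstanceAs (TopologicalSpace.NoetherianSpace (PrimeSpectrum A))
  obtain ⟨N, hN, ⟨f⟩⟩ := @Groth.L03.QcOpenExtend.exists_finite_tilde_restrict (CommRingCat.of A) U
    (TopologicalSpace.NoetherianSpace.isCompact _) F hF
  obtain ⟨g⟩ := nonempty_restrict_completion_iso A U I (tilde N)
  obtain ⟨g'⟩ := nonempty_completion_iso I f.symm
  exact ⟨_, Existence.isCohFormal_completion I (Groth.L03.QcOpenExtend.isCoh_tilde N), ⟨g ≪≫ g' ≪≫ e⟩⟩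

end Affine2

end Groth.L12.Algz
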