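import Groth.Agent.L16.Exist.AlgComplete
import Groth.Agent.L03.AdicFSCompletion
import Groth.Agent.L12.Algz.Extend

/-! Coherent modules killed by a power of an ideal and base change along maps that do not change the quotients. -/

set_option autoImplicit false
set_option linter.style.haveILetI false
set_option backward.isDefEq.respectTransparency false
set_option backward.isDefEq.respectTransparency.types false

universe u

open CategoryTheory CategoryTheory.Limits AlgebraicGeometry Opposite

noncomputable section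

namespace Groth.L12.Algz

open Formal (smulMod smulFamily modPow modPowπ)
open Groth.L16

section Ring

variable {A A' : Type u} [CommRing A] [CommRing A'] (φ : A →+* A') (J : Ideal A)

/-- A map of rings which does not change the quotient by `J`. -/
theorem isPullback_quot (σ : A' →+* A ⧸ J) (hσ : σ.comp φ = Ideal.Quotient.mk J)
    (hker : RingHom.ker σ ≤ J.map φ) :
    IsPullback (Spec.map (CommRingCat.ofHom σ)) (𝟙 _) (Spec.map (CommRingCat.ofHom φ))
      (Spec.map (CommRingCat.ofHom (Ideal.Quotient.mk J))) := by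
  rw [← Spec.map_id]
  refine isPullback_SpecMap_of_isPushout _ _ _ _ ⟨⟨?_⟩, ⟨PushoutCocone.IsColimit.mk _ (fun s => s.inr) ?_ ?_ ?_⟩⟩
  · rw [← CommRingCat.ofHom_comp, hσ, Category.comp_id]
  · intro s
    refine CommRingCat.hom_ext (RingHom.ext fun x => ?_)
    change s.inr.hom (σ x) = s.inl.hom x
    obtain ⟨a, ha⟩ := Ideal.Quotient.mk_surjective (σ x)
    have hc : ∀ b : A, s.inl.hom (φ b) = s.inr.hom (Ideal.Quotient.mk J b) := fun b =>
      congrArg (fun t => t.hom b) s.condition
    have hJ : J.map φ ≤ RingHom.ker s.inl.hom := by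
      rw [Ideal.map_le_iff_le_comap]
      intro b hb
      rw [Ideal.mem_comap, RingHom.mem_ker, hc, Ideal.Quotient.eq_zero_iff_mem.2 hb, map_zero]
    have h0 : s.inl.hom (x - φ a) = 0 := hJ (hker (by
      rw [RingHom.mem_ker, map_sub, ← RingHom.comp_apply, hσ, ha, sub_self]))
    rw [map_sub, sub_eq_zero] at h0
    rw [← ha, ← hc, h0]
  · intro s
    exact Category.id_comp _
  · intro s m h₁ h₂
    exact (Category.id_comp m).symm.trans h₂

/-- The completion does not change the quotients. -/
theorem exists_evalHom [IsNoetherianRing A] (I : Ideal A) (n : ℕ) :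
    ∃ σ : AdicCompletion I A →+* A ⧸ I ^ n, σ.comp (algebraMap A (AdicCompletion I A)) = Ideal.Quotient.mk (I ^ n) ∧
      RingHom.ker σ ≤ (I ^ n).map (algebraMap A (AdicCompletion I A)) := by
  refine ⟨(AdicCompletion.evalₐ I n).toRingHom, RingHom.ext fun a => (AdicCompletion.evalₐ I n).commutes a, ?_⟩
  rw [Ideal.map_pow]
  exact (Groth.L03.AdicFS.ker_evalₐ_eq (IsNoetherian.noetherian I) n).le

end Ring

section Unit

variable {A : Type u} [CommRing A] [IsNoetherianRing A] {I : Ideal A} {X : Scheme.{u}} [X.Over (Spec (CommRingCat.of A))]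

/-- A module killed by `I ^ (k + 1)` is the direct image of its restriction to the thickening. -/
theorem isIso_unit_thick [IsLocallyNoetherian X] {Z : Scheme.{u}} [Z.Over (Spec (CommRingCat.of A))] {k : ℕ}
    {f : Z ⟶ X} [IsClosedImmersion f] {π : Z ⟶ Spec (CommRingCat.of (A ⧸ I ^ (k + 1)))}
    (h : IsPullback f π (X ↘ Spec (CommRingCat.of A)) (CohB1.specQuot I k))
    (hπ : π ≫ CohB1.specQuot I k = Z ↘ Spec (CommRingCat.of A)) {M : X.Modules} (hM : Coh.IsCoh M)
    (hk : Formal.KilledBy (I ^ (k + 1)) M) :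
    IsIso ((Scheme.Modules.pullbackPushforwardAdjunction f).unit.app M) := by
  obtain ⟨q, hq⟩ := Exist.Adic.exists_modPow_iso_unit h hπ hM
  rw [← hq]
  obtain ⟨r, hr⟩ := Existence.modPow_desc I (n := k + 1) (𝟙 M) fun b hb => by rw [hk b hb, zero_comp]
  haveI := Existence.epi_modPowπ I (k + 1) M
  haveI : IsIso (modPowπ I (k + 1) M) :=
    ⟨r, hr, by rw [← cancel_epi (modPowπ I (k + 1) M), reassoc_of% hr, Category.comp_id]⟩
  infer_instance

variable {X' : Scheme.{u}} [X'.Over (Spec (CommRingCat.of A))] (g : X' ⟶ X)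
  (hg : g ≫ (X ↘ Spec (CommRingCat.of A)) = X' ↘ Spec (CommRingCat.of A))

include hg in
theorem killedBy_pullback {J : Ideal A} {M : X.Modules} (hk : Formal.KilledBy J M) :
    Formal.KilledBy J ((Scheme.Modules.pullback g).obj M) := fun b hb => by
  haveI : (Scheme.Modules.pullback g).Additive :=
    (Scheme.Modules.pullbackPushforwardAdjunction g).left_adjoint_additive
  rw [← Exist.pullback_smulMod g hg, hk b hb, Functor.map_zero]

variable {A' : Type u} [CommRing A'] (φ : A →+* A') (p' : X' ⟶ Spec (CommRingCat.of A'))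
  (sq : IsPullback g p' (X ↘ Spec (CommRingCat.of A)) (Spec.map (CommRingCat.ofHom φ)))

include hg sq in
/-- Base change along a map not changing the quotient by `I ^ (k + 1)` does not change killed modules. -/
theorem isIso_unit_killed [IsLocallyNoetherian X] [IsLocallyNoetherian X'] {k : ℕ}
    (σ : A' →+* A ⧸ I ^ (k + 1)) (hσ : σ.comp φ = Ideal.Quotient.mk (I ^ (k + 1)))
    (hker : RingHom.ker σ ≤ (I ^ (k + 1)).map φ) {M : X.Modules} (hM : Coh.IsCoh M)
    (hk : Formal.KilledBy (I ^ (k + 1)) M) :
    IsIso ((Scheme.Modules.pullbackPushforwardAdjunction g).unit.app M) := by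
  haveI : IsClosedImmersion (CohB1.specQuot I k) :=
    IsClosedImmersion.spec_of_surjective _ Ideal.Quotient.mk_surjective
  haveI : IsClosedImmersion (Spec.map (CommRingCat.ofHom σ)) := by
    refine IsClosedImmersion.spec_of_surjective _ fun y => ?_
    obtain ⟨a, rfl⟩ := Ideal.Quotient.mk_surjective y
    exact ⟨φ a, congrArg (fun t : A →+* A ⧸ I ^ (k + 1) => t a) hσ⟩
  let Z := pullback p' (Spec.map (CommRingCat.ofHom σ))
  let i' : Z ⟶ X' := pullback.fst _ _
  let π : Z ⟶ Spec (CommRingCat.of (A ⧸ I ^ (k + 1))) := pullback.snd _ _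
  letI : Z.Over (Spec (CommRingCat.of A)) := ⟨π ≫ CohB1.specQuot I k⟩
  have h1 : IsPullback i' π p' (Spec.map (CommRingCat.ofHom σ)) := IsPullback.of_hasPullback _ _
  have h2 := isPullback_quot φ (I ^ (k + 1)) σ hσ hker
  have hX' : IsPullback i' π (X' ↘ Spec (CommRingCat.of A)) (CohB1.specQuot I k) := by
    have h := h1.paste_vert h2
    rw [Category.comp_id, ← sq.w, hg] at h
    exact h
  have hX : IsPullback (i' ≫ g) π (X ↘ Spec (CommRingCat.of A)) (CohB1.specQuot I k) := by
    have h := h1.paste_horiz sq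
    rw [← Spec.map_comp, ← CommRingCat.ofHom_comp, hσ] at h
    exact h
  haveI : IsClosedImmersion (i' ≫ g) := MorphismProperty.of_isPullback hX.flip inferInstance
  haveI hi := isIso_unit_thick hX rfl hM hk
  haveI hi' := isIso_unit_thick hX' rfl (Groth.L16.AffineBC.isCoh_pullback g hM) (killedBy_pullback g hg hk)
  obtain ⟨e, he⟩ := Exist.Adic.exists_unit_comp i' g M
  haveI : IsIso ((Scheme.Modules.pullbackPushforwardAdjunction g).unit.app M ≫
      (Coh.push g).map ((Scheme.Modules.pullbackPushforwardAdjunction i').unit.app _) ≫ e.hom) := by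
    rw [he]; exact hi
  exact IsIso.of_isIso_comp_right _
    ((Coh.push g).map ((Scheme.Modules.pullbackPushforwardAdjunction i').unit.app _) ≫ e.hom)

end Unit

section BaseRing

variable {A A' : Type u} [CommRing A] [CommRing A'] (φ : A →+* A') {X : Scheme.{u}}
  [X.Over (Spec (CommRingCat.of A))] [X.Over (Spec (CommRingCat.of A'))]
  (hc : (X ↘ Spec (CommRingCat.of A')) ≫ Spec.map (CommRingCat.ofHom φ) = X ↘ Spec (CommRingCat.of A))

include hc in
theorem smulMod_base (M : X.Modules) (a : A) : smulMod A M a = smulMod A' M (φ a) := by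
  unfold Formal.smulMod
  congr 1
  simp only [Coh.toGlobal, ← hc]
  rw [Scheme.Hom.comp_appTop, CommRingCat.hom_comp]
  refine congrArg (X ↘ Spec (CommRingCat.of A')).appTop.hom ?_
  exact (congrArg (fun t => t.hom a) (Scheme.ΓSpecIso_inv_naturality (CommRingCat.ofHom φ))).symm

include hc in
theorem smul_comp_eq_zero_map {J : Ideal A} {M T : X.Modules} (f : M ⟶ T)
    (h : ∀ a ∈ J, smulMod A M a ≫ f = 0) : ∀ b ∈ J.map φ, smulMod A' M b ≫ f = 0 := by
  intro b hb
  induction hb using Submodule.span_induction with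
  | mem x hx =>
    obtain ⟨a, ha, rfl⟩ := hx
    rw [← smulMod_base φ hc]
    exact h a ha
  | zero => rw [Rees.smulMod_zero, zero_comp]
  | add x y _ _ hx hy => rw [HomSh.smulMod_add, Preadditive.add_comp, hx, hy, add_zero]
  | smul c x _ hx => rw [smul_eq_mul, mul_comm, Rees.smulMod_mul, Category.assoc, hx, comp_zero]

include hc in
theorem killedBy_base_iff {J : Ideal A} {M : X.Modules} :
    Formal.KilledBy (J.map φ) M ↔ Formal.KilledBy J M := by
  refine ⟨fun h a ha => (smulMod_base φ hc M a).trans (h _ (Ideal.mem_map_of_mem φ ha)), fun h b hb => ?_⟩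
  have := smul_comp_eq_zero_map φ hc (𝟙 M) (J := J) (fun a ha => by rw [h a ha, zero_comp]) b hb
  rwa [Category.comp_id] at this

variable (I : Ideal A)

include hc in
theorem exists_modPow_baseIso (n : ℕ) (M : X.Modules) :
    ∃ e : modPow I n M ≅ modPow (I.map φ) n M, modPowπ I n M ≫ e.hom = modPowπ (I.map φ) n M := by
  obtain ⟨r, hr⟩ := Existence.modPow_desc I (n := n) (modPowπ (I.map φ) n M) fun a ha => by
    rw [smulMod_base φ hc, Rees.smulMod_modPowπ (I.map φ) M
      (show φ a ∈ (I.map φ) ^ n by rw [← Ideal.map_pow]; exact Ideal.mem_map_of_mem φ ha)]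
  obtain ⟨s, hs⟩ := Existence.modPow_desc (I.map φ) (n := n) (modPowπ I n M) fun b hb => by
    refine smul_comp_eq_zero_map φ hc _ (J := I ^ n) (fun a ha => Rees.smulMod_modPowπ I M ha) b ?_
    rwa [Ideal.map_pow]
  haveI := Existence.epi_modPowπ I n M
  haveI := Existence.epi_modPowπ (I.map φ) n M
  exact ⟨⟨r, s, by rw [← cancel_epi (modPowπ I n M), reassoc_of% hr, hs, Category.comp_id],
    by rw [← cancel_epi (modPowπ (I.map φ) n M), reassoc_of% hs, hr, Category.comp_id]⟩, hr⟩

include hc in
theorem nonempty_completion_baseIso (M : X.Modules) :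
    Nonempty (Formal.completion I M ≅ Formal.completion (I.map φ) M) := by
  choose t ht using fun n => exists_modPow_baseIso φ hc I (n + 1) M
  refine ⟨NatIso.ofComponents (fun k => t k.unop) fun {a b} f => ?_⟩
  obtain ⟨a⟩ := a
  obtain ⟨b⟩ := b
  have hba : b ≤ a := leOfHom f.unop
  haveI := Existence.epi_modPowπ I (a + 1) M
  rw [show f = (homOfLE hba).op from rfl]
  show Groth.L16.Existence.tr (Formal.completion I M) b a hba ≫ (t b).hom =
    (t a).hom ≫ Groth.L16.Existence.tr (Formal.completion (I.map φ) M) b a hba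
  rw [← cancel_epi (modPowπ I (a + 1) M), ← Category.assoc,
    Existence.π_completion_tr I M hba, ht, reassoc_of% (ht a), Existence.π_completion_tr (I.map φ) M hba]

include hc in
/-- Coherent formal modules over a larger base ring. -/
theorem isCohFormal_base {G : ℕᵒᵖ ⥤ X.Modules} (hG : Formal.IsCohFormal I G) :
    Formal.IsCohFormal (I.map φ) G := by
  refine ⟨hG.1, fun n => ?_, fun n => ?_⟩
  · rw [← Ideal.map_pow]
    exact (killedBy_base_iff φ hc).2 (hG.2.1 n)
  · obtain ⟨h0, hiso⟩ := hG.2.2 n
    let δ : modPow I (n + 1) (G.obj (op (n + 1))) ⟶ G.obj (op n) := cokernel.desc _ _ h0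
    haveI : IsIso δ := hiso
    have h1 : smulFamily ((I.map φ) ^ (n + 1)) (G.obj (op (n + 1))) ≫ G.map (homOfLE (Nat.le_succ n)).op = 0 := by
      apply Sigma.hom_ext
      intro b
      rw [comp_zero, smulFamily, Sigma.ι_desc_assoc]
      refine smul_comp_eq_zero_map φ hc _ (J := I ^ (n + 1)) (fun a ha => ?_) b.1 ?_
      · rw [Rees.smulMod_naturality, hG.2.1 n a ha, comp_zero]
      · rw [Ideal.map_pow]; exact b.2
    refine ⟨h1, ?_⟩
    obtain ⟨e, he⟩ := exists_modPow_baseIso φ hc I (n + 1) (G.obj (op (n + 1)))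
    haveI := Existence.epi_modPowπ I (n + 1) (G.obj (op (n + 1)))
    have : e.hom ≫ cokernel.desc _ _ h1 = δ := by
      refine (cancel_epi (modPowπ I (n + 1) (G.obj (op (n + 1))))).1 ?_
      rw [reassoc_of% he]
      exact (cokernel.π_desc _ _ h1).trans (cokernel.π_desc _ _ h0).symm
    exact IsIso.of_isIso_fac_left this

end BaseRing

end Groth.L12.Algz
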