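import Groth.Agent.L12.Algz.Limit
import Groth.Prelude.Def_Formal2

/-! A criterion for canonical extension. -/

set_option autoImplicit false
set_option linter.style.haveILetI false
set_option backward.isDefEq.respectTransparency false
set_option backward.isDefEq.respectTransparency.types false

universe u

open CategoryTheory CategoryTheory.Limits AlgebraicGeometry Opposite

noncomputable section

namespace Groth.L12.Algz

open Formal (smulMod smulFamily modPow modPowπ)
open Groth.L16
open AffineBC (scal)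

section ML

variable {A : Type u} [CommRing A]

theorem range_eq_range_arrow {M N : ModuleCat.{u} A} (f : M ⟶ N) :
    LinearMap.range f.hom = LinearMap.range (imageSubobject f).arrow.hom := by
  have h : Function.Surjective (factorThruImageSubobject f).hom :=
    (ModuleCat.epi_iff_surjective _).1 inferInstance
  conv_lhs => rw [← imageSubobject_arrow_comp f]
  rw [ModuleCat.hom_comp, LinearMap.range_comp, LinearMap.range_eq_top.2 h, Submodule.map_top]

/-- In a Mittag-Leffler system the stable images lift to the limit. -/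
theorem exists_range_le_π (X : ℕᵒᵖ ⥤ ModuleCat.{u} A) (hX : ARSys.IsML X) (n : ℕ) :
    ∃ R, ∃ h : n ≤ R, LinearMap.range (ARSys.tr X h).hom ≤ LinearMap.range (limit.π X (op n)).hom := by
  choose r hr using hX
  have hst : ∀ k s (hs : k + r k ≤ s) (x : X.obj (op (k + r k))),
      ∃ y : X.obj (op s), (ARSys.tr X ((Nat.le_add_right k (r k)).trans hs)).hom y =
        (ARSys.tr X (Nat.le_add_right k (r k))).hom x := fun k s hs x => by
    obtain ⟨d, rfl⟩ := Nat.exists_eq_add_of_le ((Nat.le_add_right k (r k)).trans hs)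
    have h1 : LinearMap.range (ARSys.shiftMap X d k).hom = LinearMap.range (ARSys.shiftMap X (r k) k).hom := by
      rw [range_eq_range_arrow, range_eq_range_arrow (ARSys.shiftMap X (r k) k), hr k d (Nat.le_of_add_le_add_left hs)]
    exact h1.ge ⟨x, rfl⟩
  let S : ℕ → Type u := fun k => {x : X.obj (op k) // x ∈ LinearMap.range (ARSys.tr X (Nat.le_add_right k (r k))).hom}
  have hstep : ∀ k (x : S k), ∃ y : S (k + 1), (ARSys.tr X (Nat.le_succ k)).hom y.1 = x.1 := by
    rintro k ⟨x, w, rfl⟩
    obtain ⟨y, hy⟩ := hst k (max (k + r k) (k + 1 + r (k + 1))) (le_max_left _ _) w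
    refine ⟨⟨_, (ARSys.tr X (le_max_right (k + r k) (k + 1 + r (k + 1)))).hom y, rfl⟩, ?_⟩
    refine Eq.trans ?_ hy
    exact (ConcreteCategory.congr_hom (tr_tr X (Nat.le_succ k) (Nat.le_add_right (k + 1) (r (k + 1)))) _).trans
      (ConcreteCategory.congr_hom (tr_tr X ((Nat.le_succ k).trans (Nat.le_add_right (k + 1) (r (k + 1))))
        (le_max_right (k + r k) (k + 1 + r (k + 1)))) y)
  choose nxt hnxt using hstep
  refine ⟨n + r n, Nat.le_add_right n (r n), ?_⟩
  rintro _ ⟨x, rfl⟩
  let up : ∀ j, S (n + j) := fun j =>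
    Nat.rec (motive := fun j => S (n + j)) ⟨_, x, rfl⟩ (fun j z => nxt (n + j) z) j
  let z : ∀ k, X.obj (op k) := fun k => (ARSys.tr X (show k ≤ n + k from Nat.le_add_left k n)).hom (up k).1
  have hz : ∀ k, (ARSys.tr X (Nat.le_succ k)).hom (z (k + 1)) = z k := fun k => by
    have h1 : (ARSys.tr X (Nat.le_succ (n + k))).hom (up (k + 1)).1 = (up k).1 := hnxt (n + k) (up k)
    refine (ConcreteCategory.congr_hom (tr_tr X (Nat.le_succ k) (Nat.le_add_left (k + 1) n)) _).trans ?_
    refine Eq.trans ?_ (congrArg (ARSys.tr X (Nat.le_add_left k n)).hom h1)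
    exact (ConcreteCategory.congr_hom (tr_tr X (Nat.le_add_left k n) (Nat.le_succ (n + k))) _).symm
  have hz' : ∀ {p q : ℕ} (h : p ≤ q), (ARSys.tr X h).hom (z q) = z p := by
    intro p q h
    induction q, h using Nat.le_induction with
    | base =>
      rw [ARSys.tr, show (homOfLE (le_refl p)).op = 𝟙 (op p) from rfl, CategoryTheory.Functor.map_id]
      rfl
    | succ q hq ih =>
      rw [← ih, ← hz q]
      exact (ConcreteCategory.congr_hom (tr_tr X hq (Nat.le_succ q)) _).symm
  have hup : ∀ j, (ARSys.tr X (Nat.le_add_right n j)).hom (up j).1 = (ARSys.tr X (Nat.le_add_right n (r n))).hom x := by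
    intro j
    induction j with
    | zero =>
      show (ARSys.tr X (le_refl n)).hom _ = _
      rw [ARSys.tr, show (homOfLE (le_refl n)).op = 𝟙 (op n) from rfl, CategoryTheory.Functor.map_id]
      rfl
    | succ j ih =>
      refine Eq.trans ?_ ih
      rw [← hnxt (n + j) (up j)]
      exact (ConcreteCategory.congr_hom (tr_tr X (Nat.le_add_right n j) (Nat.le_succ (n + j))) _).symm
  let c : Cone X :=
    { pt := ModuleCat.of A (ULift.{u} A)
      π := { app := fun k => ModuleCat.ofHom ((LinearMap.toSpanSingleton A _ (z k.unop)).comp ULift.moduleEquiv.toLinearMap)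
             naturality := by
              rintro ⟨q⟩ ⟨p⟩ f
              have hpq : p ≤ q := leOfHom f.unop
              rw [show f = (homOfLE hpq).op from rfl]
              ext t
              show t.down • z p = (ARSys.tr X hpq).hom (t.down • z q)
              rw [map_smul, hz' hpq] } }
  refine ⟨(limit.lift X c).hom ⟨1⟩, ?_⟩
  refine (ConcreteCategory.congr_hom (limit.lift_π c (op n)) (ULift.up 1)).trans ?_
  show (1 : A) • z n = _
  rw [one_smul]
  exact hup n

theorem exists_factor_ker {M N P : ModuleCat.{u} A} (p : M ⟶ N) (g : M ⟶ P) (hp : Function.Surjective p.hom)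
    (h : LinearMap.ker p.hom ≤ LinearMap.ker g.hom) : ∃ g' : N ⟶ P, p ≫ g' = g := by
  let e := p.hom.quotKerEquivOfSurjective hp
  refine ⟨ModuleCat.ofHom ((Submodule.liftQ _ g.hom h).comp e.symm.toLinearMap), ModuleCat.hom_ext (LinearMap.ext fun x => ?_)⟩
  show Submodule.liftQ _ g.hom h (e.symm (p.hom x)) = g.hom x
  rw [show p.hom x = e (Submodule.Quotient.mk x) from rfl, LinearEquiv.symm_apply_apply]
  rfl

end ML

section Tilde

variable (A : Type u) [CommRing A] {I : Ideal A}

/-- Global sections as a functor to `A`-modules. -/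
abbrev Gam : (Spec (CommRingCat.of A)).Modules ⥤ ModuleCat.{u} A := moduleSpecΓFunctor (R := CommRingCat.of A)

/-- The tilde functor on `A`-modules. -/
abbrev Til : ModuleCat.{u} A ⥤ (Spec (CommRingCat.of A)).Modules := tilde.functor (CommRingCat.of A)

/-- The tilde adjunction for `A`-modules. -/
def tilAdj : Til A ⊣ Gam A := tilde.adjunction (R := CommRingCat.of A)

instance : (Til A).IsLeftAdjoint := (tilAdj A).isLeftAdjoint

local instance overSpecA : (Spec (CommRingCat.of A)).Over (Spec (CommRingCat.of A)) := ⟨𝟙 _⟩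

theorem smulMod_app_top (M : (Spec (CommRingCat.of A)).Modules) (a : A) (x : (Gam A).obj M) :
    (smulMod A M a).app ⊤ x = (a • x : (Gam A).obj M) := by
  rw [HomSh.smulMod_app]
  rfl

theorem smulMod_tilde_eq_zero (Q : ModuleCat.{u} A) {a : A} (h : ∀ x : Q, a • x = 0) :
    smulMod A ((Til A).obj Q) a = 0 := by
  refine ((tilAdj A).homEquiv Q _).injective ?_
  rw [Adjunction.homEquiv_unit, Adjunction.homEquiv_unit]
  ext x
  let u := (tilAdj A).unit.app Q
  show (smulMod A ((Til A).obj Q) a).app ⊤ (u.hom x) = 0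
  refine (smulMod_app_top A _ a (u.hom x)).trans ?_
  exact (u.hom.map_smul a x).symm.trans ((congrArg u.hom (h x)).trans (map_zero _))

/-- The tilde of an adic system of finite modules is a coherent formal module. -/
theorem isCohFormal_tilde [IsNoetherianRing A] (Q : ℕᵒᵖ ⥤ ModuleCat.{u} A) (hfin : ∀ n, Module.Finite A (Q.obj (op n)))
    (hk : ∀ n, ∀ b ∈ I ^ (n + 1), ∀ x : Q.obj (op n), b • x = 0)
    (hsurj : ∀ n, Function.Surjective (Q.map (homOfLE (Nat.le_succ n)).op).hom)
    (hker : ∀ n x, (Q.map (homOfLE (Nat.le_succ n)).op).hom x = 0 →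
      x ∈ I ^ (n + 1) • (⊤ : Submodule A (Q.obj (op (n + 1))))) :
    Formal.IsCohFormal I (Q ⋙ tilde.functor (CommRingCat.of A) : ℕᵒᵖ ⥤ (Spec (CommRingCat.of A)).Modules) := by
  refine ⟨fun n => @Groth.L03.QcOpenExtend.isCoh_tilde (CommRingCat.of A) (Q.obj (op n)) (hfin n),
    fun n a ha => smulMod_tilde_eq_zero A _ (hk n a ha), fun n => ?_⟩
  let adj := tilAdj A
  let T := Til A
  let p := Q.map (homOfLE (Nat.le_succ n)).op
  let t : T.obj (Q.obj (op (n + 1))) ⟶ T.obj (Q.obj (op n)) := T.map p
  haveI : Epi p := (ModuleCat.epi_iff_surjective _).2 (hsurj n)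
  haveI : Epi t := T.map_epi p
  have h1 : smulFamily (I ^ (n + 1)) (T.obj (Q.obj (op (n + 1)))) ≫ t = 0 := by
    apply Sigma.hom_ext
    intro b
    rw [comp_zero, smulFamily, Sigma.ι_desc_assoc, Rees.smulMod_naturality]
    show t ≫ smulMod A ((Til A).obj (Q.obj (op n))) b = 0
    rw [smulMod_tilde_eq_zero A _ (hk n b b.2), comp_zero]
  refine ⟨h1, ?_⟩
  let W := modPow I (n + 1) (T.obj (Q.obj (op (n + 1))))
  let π₀ : T.obj (Q.obj (op (n + 1))) ⟶ W := modPowπ I (n + 1) _
  let g := (adj.homEquiv _ _) π₀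
  have hg : LinearMap.ker p.hom ≤ LinearMap.ker g.hom := by
    intro x hx
    refine Submodule.smul_induction_on (hker n x hx) (fun a ha y _ => ?_) (fun y z hy hz => Submodule.add_mem _ hy hz)
    rw [LinearMap.mem_ker]
    let u := adj.unit.app (Q.obj (op (n + 1)))
    show π₀.app ⊤ (u.hom (a • y)) = 0
    refine (congrArg (π₀.app ⊤) ((u.hom.map_smul a y).trans (smulMod_app_top A _ a (u.hom y)).symm)).trans ?_
    exact ConcreteCategory.congr_hom (congrArg (fun s => Scheme.Modules.Hom.app s ⊤)
      (Rees.smulMod_modPowπ I _ ha)) (u.hom y)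
  obtain ⟨g', hg'⟩ : ∃ g' : Q.obj (op n) ⟶ _, p ≫ g' = g := by
    exact exists_factor_ker p g (hsurj n) hg
  let s := (adj.homEquiv _ _).symm g'
  have hs : t ≫ s = π₀ := by
    rw [← Adjunction.homEquiv_naturality_left_symm, hg', Equiv.symm_apply_apply]
  haveI := Existence.epi_modPowπ I (n + 1) (T.obj (Q.obj (op (n + 1))))
  refine ⟨s, ?_, ?_⟩
  · refine (cancel_epi (modPowπ I (n + 1) (T.obj (Q.obj (op (n + 1)))))).1 ?_
    exact (Category.assoc _ _ _).symm.trans (((congrArg (· ≫ s) (cokernel.π_desc _ _ h1)).trans hs).trans (Category.comp_id _).symm)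
  · refine (cancel_epi t).1 ?_
    exact (Category.assoc _ _ _).symm.trans (((congrArg (· ≫ _) hs).trans (cokernel.π_desc _ _ h1)).trans (Category.comp_id _).symm)

end Tilde

section Criterion

variable {A : Type u} [CommRing A] [IsNoetherianRing A] {I : Ideal A}

/-- The system of quotients by powers. -/
abbrev quotSys (I : Ideal A) (M : Type u) [AddCommGroup M] [Module A M] : ℕᵒᵖ ⥤ ModuleCat.{u} A :=
  Functor.ofOpSequence (X := fun n => ModuleCat.of A (Formal2.quotPow A I M n))
    (fun n => ModuleCat.ofHom (Formal2.quotPowTrans A I M n))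

omit [IsNoetherianRing A] in
theorem quotSys_tr_mk (M : Type u) [AddCommGroup M] [Module A M] {p q : ℕ} (h : p ≤ q) (x : M) :
    (ARSys.tr (quotSys I M) h).hom (Submodule.Quotient.mk x) =
      (Submodule.Quotient.mk x : Formal2.quotPow A I M p) := by
  induction q, h using Nat.le_induction with
  | base =>
    rw [ARSys.tr, show (homOfLE (le_refl p)).op = 𝟙 (op p) from rfl, CategoryTheory.Functor.map_id]
    rfl
  | succ q hq ih =>
    refine Eq.trans ?_ ih
    refine ((ConcreteCategory.congr_hom (tr_tr (quotSys I M) hq (Nat.le_succ q)) _).symm.trans ?_)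
    refine congrArg (ARSys.tr (quotSys I M) hq).hom ?_
    rw [ARSys.tr, Functor.ofOpSequence_map_homOfLE_succ]
    rfl

omit [IsNoetherianRing A] in
/-- A Mittag-Leffler system of killed modules whose limit topology is adic is pro-isomorphic to the quotients of
its limit. -/
theorem isProIsomorphic_quotSys (X : ℕᵒᵖ ⥤ ModuleCat.{u} A) (hML : ARSys.IsML X)
    (hk : ∀ n, ∀ b ∈ I ^ (n + 1), ∀ x : X.obj (op n), b • x = 0)
    (hb : ∀ k, ∃ n, LinearMap.ker (limit.π X (op n)).hom ≤ I ^ k • (⊤ : Submodule A ↑(limit X))) :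
    _root_.Algz.IsProIsomorphic X (quotSys I ↑(limit X)) := by
  have hw : ∀ {p q : ℕ} (h : p ≤ q) (z : ↑(limit X)),
      (ARSys.tr X h).hom ((limit.π X (op q)).hom z) = (limit.π X (op p)).hom z :=
    fun h z => ConcreteCategory.congr_hom (limit.w X (homOfLE h).op) z
  choose N₀ hN₀ using fun j => hb (j + 1)
  choose R hR hR' using exists_range_le_π X hML
  let N : ℕ → ℕ := fun j => j + (Finset.range (j + 1)).sup N₀
  have hNm : Monotone N := fun i j h => Nat.add_le_add h (Finset.sup_mono (Finset.range_mono (Nat.succ_le_succ h)))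
  let m : ℕ → ℕ := fun j => N j + (Finset.range (N j + 1)).sup R
  have hm : Monotone m := fun i j h => Nat.add_le_add (hNm h)
    (Finset.sup_mono (Finset.range_mono (Nat.succ_le_succ (hNm h))))
  have hle : ∀ j, j ≤ m j := fun j => le_trans (Nat.le_add_right _ _) (Nat.le_add_right _ _)
  have hNle : ∀ j, N j ≤ m j := fun j => Nat.le_add_right _ _
  have hker : ∀ j z, (limit.π X (op (N j))).hom z = 0 → z ∈ I ^ (j + 1) • (⊤ : Submodule A ↑(limit X)) :=
    fun j z hz => hN₀ j (by
      have h0 : N₀ j ≤ N j := (Finset.le_sup (Finset.self_mem_range_succ j)).trans (Nat.le_add_left _ _)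
      rw [LinearMap.mem_ker, ← hw h0, hz, map_zero])
  have hlift : ∀ j (x : X.obj (op (m j))), ∃ z : ↑(limit X),
      (limit.π X (op (N j))).hom z = (ARSys.tr X (hNle j)).hom x := fun j x => by
    have h0 : R (N j) ≤ m j := (Finset.le_sup (Finset.self_mem_range_succ (N j))).trans (Nat.le_add_left _ _)
    obtain ⟨z, hz⟩ := hR' (N j) ⟨(ARSys.tr X h0).hom x, rfl⟩
    exact ⟨z, hz.trans (ConcreteCategory.congr_hom (tr_tr X (hR (N j)) h0) x)⟩
  choose L hL using hlift
  have huniq : ∀ j z z', (limit.π X (op (N j))).hom z = (limit.π X (op (N j))).hom z' →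
      (Submodule.Quotient.mk z : Formal2.quotPow A I ↑(limit X) j) = Submodule.Quotient.mk z' := fun j z z' h =>
    (Submodule.Quotient.eq _).2 (hker j _ (by rw [map_sub, h, sub_self]))
  let aL : ∀ j, X.obj (op (m j)) →ₗ[A] Formal2.quotPow A I ↑(limit X) j := fun j =>
    { toFun := fun x => Submodule.Quotient.mk (L j x)
      map_add' := fun x y => by
        rw [← Submodule.Quotient.mk_add]
        exact huniq j _ _ (by rw [map_add, hL, hL, hL, map_add])
      map_smul' := fun c x => by
        rw [RingHom.id_apply, ← Submodule.Quotient.mk_smul]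
        exact huniq j _ _ (by rw [map_smul, hL, hL, map_smul]) }
  refine ⟨m, hm, hle,
    { app := fun k => ModuleCat.ofHom (aL k.unop)
      naturality := ?_ }, fun n => ?_⟩
  · rintro ⟨q⟩ ⟨p⟩ f
    have hpq : p ≤ q := leOfHom f.unop
    rw [show f = (homOfLE hpq).op from rfl]
    ext x
    show (Submodule.Quotient.mk (L p ((ARSys.tr X (hm hpq)).hom x)) : Formal2.quotPow A I ↑(limit X) p) =
      (ARSys.tr (quotSys I ↑(limit X)) hpq).hom (Submodule.Quotient.mk (L q x))
    refine Eq.trans ?_ (quotSys_tr_mk _ hpq _).symm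
    refine huniq p _ _ ?_
    rw [hL, ← hw (hNm hpq), hL]
    exact (ConcreteCategory.congr_hom (tr_tr X (hNle p) (hm hpq)) x).trans
      (ConcreteCategory.congr_hom (tr_tr X (hNm hpq) (hNle q)) x).symm
  · let b : Formal2.quotPow A I ↑(limit X) (m n) →ₗ[A] X.obj (op (m n)) :=
      Submodule.liftQ _ (limit.π X (op (m n))).hom (Submodule.smul_le.2 fun c hc z _ => by
        rw [LinearMap.mem_ker, map_smul, hk (m n) c hc])
    refine ⟨m n, hle n, ModuleCat.ofHom b, ?_, ?_⟩
    · ext x
      show b (Submodule.Quotient.mk (L (m n) x)) = (ARSys.tr X (hm (hle n))).hom x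
      have h1 : m n ≤ N (m n) := Nat.le_add_right _ _
      refine (hw h1 _).symm.trans ?_
      rw [hL]
      exact ConcreteCategory.congr_hom (tr_tr X h1 (hNle (m n))) x
    · ext q
      obtain ⟨z, rfl⟩ := Submodule.Quotient.mk_surjective _ q
      show (Submodule.Quotient.mk (L n ((limit.π X (op (m n))).hom z)) : Formal2.quotPow A I ↑(limit X) n) = _
      refine Eq.trans ?_ (quotSys_tr_mk _ (hle n) z).symm
      exact huniq n _ _ (by rw [hL, hw])

/-- The criterion for canonical extension. -/
theorem canonicallyExtends_of (U : (Spec (CommRingCat.of A)).Opens) (G : ℕᵒᵖ ⥤ (U : Scheme.{u}).Modules)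
    (hG : Formal.IsCohFormal I G) (ha : ARSys.IsML (_root_.Algz.sectMod A U G))
    (hb : ∀ k : ℕ, ∃ n : ℕ, LinearMap.ker (limit.π (_root_.Algz.sectMod A U G) (op n)).hom ≤
      I ^ k • (⊤ : Submodule A ↑(limit (_root_.Algz.sectMod A U G))))
    (hc : ∀ n : ℕ, Module.Finite A ↥(LinearMap.range (limit.π (_root_.Algz.sectMod A U G) (op n)).hom)) :
    _root_.Algz.CanonicallyExtends A I U G := by
  let X := _root_.Algz.sectMod A U G
  have hk : ∀ n, ∀ b ∈ I ^ (n + 1), ∀ x : X.obj (op n), b • x = 0 := by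
    intro n b hbI x
    letI : (Spec (CommRingCat.of A)).Over (Spec (CommRingCat.of A)) := ⟨𝟙 _⟩
    haveI : (Scheme.Modules.pushforward U.ι).Additive :=
      (Scheme.Modules.pullbackPushforwardAdjunction U.ι).right_adjoint_additive
    refine (smulMod_app_top A ((Coh.push U.ι).obj (G.obj (op n))) b x).symm.trans ?_
    rw [Supp.smulMod_push U.ι (ι_over A U), hG.2.1 n b hbI]
    haveI : (Coh.push U.ι).Additive :=
      (Scheme.Modules.pullbackPushforwardAdjunction U.ι).right_adjoint_additive
    rw [(Coh.push U.ι).map_zero]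
    rfl
  let L : Type u := ↑(limit X)
  have hfin : ∀ j, Module.Finite A (Formal2.quotPow A I L j) := fun j => by
    obtain ⟨n, hn⟩ := hb (j + 1)
    haveI := hc n
    haveI : Module.Finite A (L ⧸ LinearMap.ker (limit.π X (op n)).hom) :=
      Module.Finite.equiv (limit.π X (op n)).hom.quotKerEquivRange.symm
    exact Module.Finite.of_surjective (M := L ⧸ LinearMap.ker (limit.π X (op n)).hom)
      (Submodule.mapQ (LinearMap.ker (limit.π X (op n)).hom) (I ^ (j + 1) • (⊤ : Submodule A L)) LinearMap.id hn)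
      (fun q => by
        obtain ⟨z, rfl⟩ := Submodule.Quotient.mk_surjective _ q
        exact ⟨Submodule.Quotient.mk z, rfl⟩)
  refine ⟨quotSys I L ⋙ tilde.functor (CommRingCat.of A), ?_,
    isProIsomorphic_map (tilde.functor (CommRingCat.of A)) (isProIsomorphic_quotSys X ha hk hb)⟩
  refine isCohFormal_tilde A (quotSys I L) hfin (fun n b hbI q => ?_) (fun n => ?_) (fun n q hq => ?_)
  · obtain ⟨z, rfl⟩ := Submodule.Quotient.mk_surjective _ q
    exact (Submodule.Quotient.mk_eq_zero _).2 (Submodule.smul_mem_smul hbI Submodule.mem_top)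
  · intro q
    obtain ⟨z, rfl⟩ := Submodule.Quotient.mk_surjective _ q
    exact ⟨Submodule.Quotient.mk z, quotSys_tr_mk L (Nat.le_succ n) z⟩
  · obtain ⟨z, rfl⟩ := Submodule.Quotient.mk_surjective _ q
    rw [show ((quotSys I L).map (homOfLE (Nat.le_succ n)).op).hom (Submodule.Quotient.mk z) = _ from
      quotSys_tr_mk L (Nat.le_succ n) z] at hq
    have hz := Submodule.mem_map_of_mem (f := (I ^ (n + 1 + 1) • (⊤ : Submodule A L)).mkQ)
      ((Submodule.Quotient.mk_eq_zero _).1 hq)
    rw [Submodule.map_smul''] at hz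
    exact Submodule.smul_mono le_rfl le_top hz

end Criterion

end Groth.L12.Algz
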