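import Groth.Agent.L12.Algz.Compl
import Groth.Agent.L16.Exist.Proper
import Groth.Agent.L17.PushQCoh
import Groth.Agent.L16.CohClosedPush
import Groth.Agent.L16.Exist.AlgImmersion

/-! Extension of coherent formal modules and algebraization over the completion. -/

set_option autoImplicit false
set_option linter.style.haveILetI false
set_option backward.isDefEq.respectTransparency false
set_option backward.isDefEq.respectTransparency.types false

universe u

open CategoryTheory CategoryTheory.Limits AlgebraicGeometry Opposite TopologicalSpace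

noncomputable section

namespace Groth.L12.Algz

open Formal (smulMod smulFamily modPow modPowπ)
open Groth.L16
open AffineBC (scal)

variable {A A' : Type u} [CommRing A] [CommRing A'] (φ : A →+* A') (U : (Spec (CommRingCat.of A)).Opens)

/-- The map of spectra. -/
abbrev fS : Spec (CommRingCat.of A') ⟶ Spec (CommRingCat.of A) := Spec.map (CommRingCat.ofHom φ)

/-- The restriction of the map of spectra over `U`. -/
abbrev gU : ↑(fS φ ⁻¹ᵁ U) ⟶ (U : Scheme.{u}) := morphismRestrict (fS φ) U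

local instance overS : (Spec (CommRingCat.of A)).Over (Spec (CommRingCat.of A)) := ⟨𝟙 _⟩

theorem gU_over : gU φ U ≫ ((U : Scheme.{u}) ↘ Spec (CommRingCat.of A)) = (fS φ ⁻¹ᵁ U).ι ≫ fS φ :=
  morphismRestrict_ι _ _

theorem sq_gU : IsPullback (gU φ U) (fS φ ⁻¹ᵁ U).ι ((U : Scheme.{u}) ↘ Spec (CommRingCat.of A)) (fS φ) :=
  isPullback_morphismRestrict (fS φ) U

/-- Restriction to opens commutes with pullback. -/
def restrictPullIso : Scheme.Modules.pullback (fS φ) ⋙ Scheme.Modules.restrictFunctor (fS φ ⁻¹ᵁ U).ι ≅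
    Scheme.Modules.restrictFunctor U.ι ⋙ Scheme.Modules.pullback (gU φ U) :=
  Functor.isoWhiskerLeft _ (Scheme.Modules.restrictFunctorIsoPullback _) ≪≫
    Scheme.Modules.pullbackComp _ _ ≪≫ Scheme.Modules.pullbackCongr (morphismRestrict_ι (fS φ) U).symm ≪≫
    (Scheme.Modules.pullbackComp _ _).symm ≪≫
    Functor.isoWhiskerRight (Scheme.Modules.restrictFunctorIsoPullback _).symm _

variable [IsNoetherianRing A] [IsNoetherianRing A'] {I : Ideal A}

/-- An extending system algebraizes over a complete ring. -/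
theorem completion_of_extends [IsAdicComplete (I.map φ) A'] {G : ℕᵒᵖ ⥤ (U : Scheme.{u}).Modules}
    (h : _root_.Algz.Extends I U G) :
    ∃ F' : (↑(fS φ ⁻¹ᵁ U) : Scheme.{u}).Modules, Coh.IsCoh F' ∧
      Nonempty (Formal.completion (I.map φ) F' ≅ G ⋙ Scheme.Modules.pullback (gU φ U)) := by
  haveI : IsNoetherianRing (CommRingCat.of A) := ‹IsNoetherianRing A›
  haveI : IsNoetherianRing (CommRingCat.of A') := ‹IsNoetherianRing A'›
  letI : (Spec (CommRingCat.of A')).Over (Spec (CommRingCat.of A)) := ⟨fS φ⟩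
  letI : (Spec (CommRingCat.of A')).Over (Spec (CommRingCat.of A')) := ⟨𝟙 _⟩
  haveI : IsProper ((Spec (CommRingCat.of A')) ↘ Spec (CommRingCat.of A')) :=
    show IsProper (𝟙 (Spec (CommRingCat.of A'))) from inferInstance
  obtain ⟨G', hG', ⟨i⟩⟩ := h
  have h1 := isCohFormal_base φ (X := Spec (CommRingCat.of A')) (Category.id_comp _) I
    (Exist.isCohFormal_pullback I (fS φ) (Category.comp_id _) hG')
  obtain ⟨N, hN, ⟨e⟩⟩ := Exist.algebraisable (I.map φ) (Spec (CommRingCat.of A')) _ h1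
  obtain ⟨r⟩ := nonempty_restrict_completion_iso A' (fS φ ⁻¹ᵁ U) (I.map φ) N
  exact ⟨N.restrict (fS φ ⁻¹ᵁ U).ι, Groth.L03.QcOpenExtend.isCoh_of_iso
      ((Scheme.Modules.restrictFunctorIsoPullback (fS φ ⁻¹ᵁ U).ι).app N)
      (Groth.L16.AffineBC.isCoh_pullback _ hN),
    ⟨r.symm ≪≫ Functor.isoWhiskerRight e _ ≪≫ Functor.associator _ _ _ ≪≫
      Functor.isoWhiskerLeft G' (restrictPullIso φ U) ≪≫ (Functor.associator _ _ _).symm ≪≫
      Functor.isoWhiskerRight i _⟩⟩

section Descend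

variable (hq : ∀ k : ℕ, ∃ σ : A' →+* A ⧸ I ^ (k + 1), σ.comp φ = Ideal.Quotient.mk (I ^ (k + 1)) ∧
    RingHom.ker σ ≤ (I ^ (k + 1)).map φ)

include hq in
/-- The direct image on `Spec A` of a completion over `Spec A'`. -/
theorem isCohFormal_push_completion [(Spec (CommRingCat.of A')).Over (Spec (CommRingCat.of A))]
    (hf : (Spec (CommRingCat.of A') ↘ Spec (CommRingCat.of A)) = fS φ)
    {N : (Spec (CommRingCat.of A')).Modules} (hN : Coh.IsCoh N) :
    Formal.IsCohFormal I (Formal.completion I N ⋙ Coh.push (fS φ)) := by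
  haveI : IsNoetherianRing (CommRingCat.of A) := ‹IsNoetherianRing A›
  haveI : IsNoetherianRing (CommRingCat.of A') := ‹IsNoetherianRing A'›
  have hH := Existence.isCohFormal_completion I hN
  have hi : fS φ ≫ (Spec (CommRingCat.of A) ↘ Spec (CommRingCat.of A)) =
      Spec (CommRingCat.of A') ↘ Spec (CommRingCat.of A) := (Category.comp_id _).trans hf.symm
  refine Exist.Adic.isCohFormal_of_sect (fun n => ?_) (fun n a ha => ?_) fun n V hV => ?_
  · obtain ⟨σ, hσ, hker⟩ := hq n
    let j := Spec.map (CommRingCat.ofHom σ)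
    letI : (Spec (CommRingCat.of (A ⧸ I ^ (n + 1)))).Over (Spec (CommRingCat.of A)) := ⟨CohB1.specQuot I n⟩
    haveI : IsClosedImmersion (CohB1.specQuot I n) :=
      IsClosedImmersion.spec_of_surjective _ Ideal.Quotient.mk_surjective
    haveI : IsClosedImmersion j := by
      refine IsClosedImmersion.spec_of_surjective _ fun y => ?_
      obtain ⟨a, rfl⟩ := Ideal.Quotient.mk_surjective y
      exact ⟨φ a, congrArg (fun t : A →+* A ⧸ I ^ (n + 1) => t a) hσ⟩
    have hsq : IsPullback j (𝟙 _) (Spec (CommRingCat.of A') ↘ Spec (CommRingCat.of A)) (CohB1.specQuot I n) := by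
      rw [hf]; exact isPullback_quot φ _ σ hσ hker
    let M := (Formal.completion I N).obj (op n)
    haveI := isIso_unit_thick hsq (Category.id_comp _) (M := M) (hH.1 n) (hH.2.1 n)
    have hj : j ≫ fS φ = CohB1.specQuot I n := by
      rw [← Spec.map_comp, ← CommRingCat.ofHom_comp, hσ]; rfl
    haveI : IsClosedImmersion (j ≫ fS φ) := hj ▸ inferInstance
    exact Groth.L03.QcOpenExtend.isCoh_of_iso
      ((Coh.push (fS φ)).mapIso (asIso ((Scheme.Modules.pullbackPushforwardAdjunction j).unit.app M)) ≪≫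
        (Scheme.Modules.pushforwardComp j (fS φ)).app _)
      (CohClosedPush.isCoh_push (j ≫ fS φ) (Groth.L16.AffineBC.isCoh_pullback j (hH.1 n)))
  · show smulMod A ((Coh.push (fS φ)).obj _) a = 0
    haveI : (Coh.push (fS φ)).Additive :=
      (Scheme.Modules.pullbackPushforwardAdjunction (fS φ)).right_adjoint_additive
    rw [Supp.smulMod_push (fS φ) hi, hH.2.1 n a ha, Functor.map_zero]
  · obtain ⟨-, hs, hk⟩ := Exist.sect_spec hH (fS φ ⁻¹ᵁ V) (hV.preimage (fS φ))
    refine ⟨hs n, fun x hx => ?_⟩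
    have hmem := hk n x hx
    rw [← Ideal.map_pow] at hmem ⊢
    have hsc : ∀ a : A, (fS φ).app V (scal A (Spec (CommRingCat.of A)) V a) =
        scal A (Spec (CommRingCat.of A')) (fS φ ⁻¹ᵁ V) a := fun a => by
      rw [Exist.Adic.app_scal (fS φ) hi]
    refine Submodule.smul_induction_on hmem (fun b hb y _ => ?_) (fun y z hy hz => Submodule.add_mem _ hy hz)
    induction hb using Submodule.span_induction generalizing y with
    | mem b hb =>
      obtain ⟨a, ha, rfl⟩ := hb
      rw [← hsc a]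
      exact Submodule.smul_mem_smul (Ideal.mem_map_of_mem _ ha) (Submodule.mem_top :
        (show Γ((Coh.push (fS φ)).obj ((Formal.completion I N).obj (op (n + 1))), V) from y) ∈ ⊤)
    | zero => rw [zero_smul]; exact Submodule.zero_mem _
    | add b c _ _ hb hc => rw [add_smul]; exact Submodule.add_mem _ (hb y trivial) (hc y trivial)
    | smul c b _ hb => rw [smul_assoc, smul_comm]; exact hb _ trivial

include hq in
/-- A system algebraized over `A'` extends. -/
theorem extends_of_completion {G : ℕᵒᵖ ⥤ (U : Scheme.{u}).Modules} (hG : Formal.IsCohFormal I G)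
    {F' : (↑(fS φ ⁻¹ᵁ U) : Scheme.{u}).Modules} (hF : Coh.IsCoh F')
    (e : Formal.completion (I.map φ) F' ≅ G ⋙ Scheme.Modules.pullback (gU φ U)) :
    _root_.Algz.Extends I U G := by
  haveI : IsNoetherianRing (CommRingCat.of A) := ‹IsNoetherianRing A›
  haveI : IsNoetherianRing (CommRingCat.of A') := ‹IsNoetherianRing A'›
  letI : (Spec (CommRingCat.of A')).Over (Spec (CommRingCat.of A)) := ⟨fS φ⟩
  letI : (↑(fS φ ⁻¹ᵁ U) : Scheme.{u}).Over (Spec (CommRingCat.of A)) := ⟨(fS φ ⁻¹ᵁ U).ι ≫ fS φ⟩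
  haveI : TopologicalSpace.NoetherianSpace (Spec (CommRingCat.of A')) :=
    inferInstanceAs (TopologicalSpace.NoetherianSpace (PrimeSpectrum A'))
  obtain ⟨N, hNf, ⟨t⟩⟩ := @Groth.L03.QcOpenExtend.exists_finite_tilde_restrict (CommRingCat.of A')
    (fS φ ⁻¹ᵁ U) (TopologicalSpace.NoetherianSpace.isCompact _) F' hF
  have hN : Coh.IsCoh (tilde N) := Groth.L03.QcOpenExtend.isCoh_tilde N
  obtain ⟨a⟩ := nonempty_completion_pullback_iso I (fS φ ⁻¹ᵁ U).ι rfl (tilde N)
  obtain ⟨b⟩ := nonempty_completion_iso I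
    (((Scheme.Modules.restrictFunctorIsoPullback (fS φ ⁻¹ᵁ U).ι).app (tilde N)).symm ≪≫ t.symm)
  obtain ⟨c⟩ := nonempty_completion_baseIso φ (X := ↑(fS φ ⁻¹ᵁ U)) rfl I F'
  let r : Formal.completion I (tilde N) ⋙ Scheme.Modules.restrictFunctor (fS φ ⁻¹ᵁ U).ι ≅
      G ⋙ Scheme.Modules.pullback (gU φ U) :=
    Functor.isoWhiskerLeft _ (Scheme.Modules.restrictFunctorIsoPullback _) ≪≫ a ≪≫ b ≪≫ c ≪≫ e
  let η : G ⟶ (G ⋙ Scheme.Modules.pullback (gU φ U)) ⋙ Coh.push (gU φ U) :=
    Functor.whiskerLeft G (Scheme.Modules.pullbackPushforwardAdjunction (gU φ U)).unit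
  haveI : ∀ k, IsIso (η.app k) := fun k => by
    obtain ⟨σ, hσ, hker⟩ := hq k.unop
    exact isIso_unit_killed (gU φ U) (gU_over φ U) φ _ (sq_gU φ U) σ hσ hker (hG.1 k.unop) (hG.2.1 k.unop)
  haveI : IsIso η := NatIso.isIso_of_isIso_app η
  refine ⟨_, isCohFormal_push_completion φ hq rfl hN, ⟨?_⟩⟩
  exact Functor.associator _ _ _ ≪≫
    Functor.isoWhiskerLeft _ (Groth.L17.PushQCoh.pushRestrictIso (fS φ) U.ι (fS φ ⁻¹ᵁ U).ι (gU φ U)
      (by rw [Scheme.Opens.opensRange_ι, Scheme.Opens.opensRange_ι]) (morphismRestrict_ι _ _)) ≪≫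
    (Functor.associator _ _ _).symm ≪≫ Functor.isoWhiskerRight r _ ≪≫ (asIso η).symm

end Descend

end Groth.L12.Algz
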