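import Groth.Agent.L12.Algz.Crit

/-! The module of formal sections generates a Mittag-Leffler coherent formal module. -/

set_option autoImplicit false
set_option linter.style.haveILetI false
set_option backward.isDefEq.respectTransparency false
set_option backward.isDefEq.respectTransparency.types false

universe u

open CategoryTheory CategoryTheory.Limits AlgebraicGeometry Opposite

noncomputable section

namespace Groth.L12.Algz

open Groth.L16

theorem epi_map_limit_π {A : Type u} [CommRing A] {D : Type (u + 1)} [Category.{u} D] (T : ModuleCat.{u} A ⥤ D)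
    [T.IsLeftAdjoint] (X : ℕᵒᵖ ⥤ ModuleCat.{u} A) {n R : ℕ} (hR : n ≤ R)
    (hR' : LinearMap.range (ARSys.tr X hR).hom ≤ LinearMap.range (limit.π X (op n)).hom)
    [Epi (T.map (ARSys.tr X hR))] : Epi (T.map (limit.π X (op n))) := by
  let P := ModuleCat.of A (LinearMap.range (limit.π X (op n)).hom)
  let p : limit X ⟶ P := ModuleCat.ofHom (limit.π X (op n)).hom.rangeRestrict
  let ι : P ⟶ X.obj (op n) := ModuleCat.ofHom (Submodule.subtype _)
  let q : X.obj (op R) ⟶ P :=
    ModuleCat.ofHom ((ARSys.tr X hR).hom.codRestrict _ fun x => hR' ⟨x, rfl⟩)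
  haveI : Epi p := (ModuleCat.epi_iff_surjective _).2 (limit.π X (op n)).hom.surjective_rangeRestrict
  haveI : Epi (T.map p) := T.map_epi p
  haveI : Epi (T.map ι) := by
    haveI : Epi (T.map q ≫ T.map ι) := by
      rw [← T.map_comp, show q ≫ ι = ARSys.tr X hR from rfl]
      infer_instance
    exact epi_of_epi (T.map q) (T.map ι)
  rw [show limit.π X (op n) = p ≫ ι from rfl, T.map_comp]
  infer_instance

theorem epi_homEquiv_symm₂ {C₁ C₂ C₃ : Type*} [Category C₁] [Category C₂] [Category C₃] {F₁ : C₁ ⥤ C₂} {G₁ : C₂ ⥤ C₁}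
    (adj₁ : F₁ ⊣ G₁) {F₂ : C₂ ⥤ C₃} {G₂ : C₃ ⥤ C₂} (adj₂ : F₂ ⊣ G₂) {M : C₁} {N : C₃} (f : M ⟶ G₁.obj (G₂.obj N))
    [Epi (F₂.map (F₁.map f))] [IsIso (adj₁.counit.app (G₂.obj N))] [IsIso (adj₂.counit.app N)] :
    Epi ((adj₂.homEquiv _ N).symm ((adj₁.homEquiv M (G₂.obj N)).symm f)) := by
  rw [Adjunction.homEquiv_counit, Adjunction.homEquiv_counit, Functor.map_comp, Category.assoc]
  infer_instance

variable {A : Type u} [CommRing A] [IsNoetherianRing A] {I : Ideal A}

theorem isIso_fromTildeΓ_push (U : (Spec (CommRingCat.of A)).Opens) (F : (U : Scheme.{u}).Modules)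
    (hF : Coh.IsQCoh F) : IsIso (Scheme.Modules.fromTildeΓ (R := CommRingCat.of A) ((Scheme.Modules.pushforward U.ι).obj F)) := by
  haveI : IsNoetherianRing (CommRingCat.of A) := ‹IsNoetherianRing A›
  haveI : TopologicalSpace.NoetherianSpace (Spec (CommRingCat.of A)) :=
    inferInstanceAs (TopologicalSpace.NoetherianSpace (PrimeSpectrum A))
  haveI : Coh.IsQCoh ((Scheme.Modules.pushforward U.ι).obj F) :=
    @Groth.L03.QcOpenExtend.isQCoh_push_ι (CommRingCat.of A) U (TopologicalSpace.NoetherianSpace.isCompact _) F hF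
  exact Scheme.Modules.isIso_fromTildeΓ_of_isQuasicoherent ((Scheme.Modules.pushforward U.ι).obj F)

theorem epi_map_π (U : (Spec (CommRingCat.of A)).Opens) {G : ℕᵒᵖ ⥤ (U : Scheme.{u}).Modules}
    (hG : Formal.IsCohFormal I G) (ha : ARSys.IsML (_root_.Algz.sectMod A U G)) (n : ℕ) :
    Epi ((Scheme.Modules.restrictFunctor U.ι).map ((Til A).map (limit.π (_root_.Algz.sectMod A U G) (op n)))) := by
  haveI : IsNoetherianRing (CommRingCat.of A) := ‹IsNoetherianRing A›
  haveI : TopologicalSpace.NoetherianSpace (Spec (CommRingCat.of A)) :=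
    inferInstanceAs (TopologicalSpace.NoetherianSpace (PrimeSpectrum A))
  let X := _root_.Algz.sectMod A U G
  let T : ModuleCat.{u} A ⥤ (U : Scheme.{u}).Modules := Til A ⋙ Scheme.Modules.restrictFunctor U.ι
  haveI : T.IsLeftAdjoint :=
    ((tilAdj A).comp (Scheme.Modules.restrictAdjunction U.ι)).isLeftAdjoint
  obtain ⟨e⟩ := nonempty_restrict_sectSys_iso A U (TopologicalSpace.NoetherianSpace.isCompact _) G
    fun k => (hG.1 k).1
  obtain ⟨R, hR, hR'⟩ := exists_range_le_π X ha n
  haveI : Epi (G.map (homOfLE hR).op) := Existence.epi_tr hG hR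
  haveI h1 : Epi (T.map (ARSys.tr X hR)) := by
    have : T.map (ARSys.tr X hR) = e.hom.app (op R) ≫ G.map (homOfLE hR).op ≫ e.inv.app (op n) := by
      rw [← reassoc_of% (e.hom.naturality (homOfLE hR).op), Iso.hom_inv_id_app]
      exact (Category.comp_id _).symm
    rw [this]
    infer_instance
  exact epi_map_limit_π T X hR hR'

/-- The canonical map from the formal sections is an epimorphism on the open. -/
theorem epi_canonical (U : (Spec (CommRingCat.of A)).Opens) {G : ℕᵒᵖ ⥤ (U : Scheme.{u}).Modules}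
    (hG : Formal.IsCohFormal I G) (ha : ARSys.IsML (_root_.Algz.sectMod A U G)) (n : ℕ) :
    Epi (((Scheme.Modules.restrictAdjunction U.ι).homEquiv _ (G.obj (op n))).symm
      (((tilde.adjunction (R := CommRingCat.of A)).homEquiv (limit (_root_.Algz.sectMod A U G))
        ((Scheme.Modules.pushforward U.ι).obj (G.obj (op n)))).symm
          (limit.π (_root_.Algz.sectMod A U G) (op n)))) := by
  haveI := isIso_fromTildeΓ_push U (G.obj (op n)) (hG.1 n).1
  have h2 : IsIso ((tilde.adjunction (R := CommRingCat.of A)).counit.app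
      ((Scheme.Modules.pushforward U.ι).obj (G.obj (op n)))) := ‹IsIso (Scheme.Modules.fromTildeΓ _)›
  exact @epi_homEquiv_symm₂ _ _ _ _ _ _ _ _ (tilde.adjunction (R := CommRingCat.of A)) _ _
    (Scheme.Modules.restrictAdjunction U.ι) (limit (_root_.Algz.sectMod A U G)) (G.obj (op n))
    (limit.π (_root_.Algz.sectMod A U G) (op n)) (epi_map_π U hG ha n) h2 inferInstance

end Groth.L12.Algz
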