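import Groth.Agent.L12.Algz.Compl
import Groth.Agent.L17.FlatBase.DegZero
import Groth.Agent.L20.ResDescent

/-! Canonical extensions and flat base change. -/

set_option autoImplicit false
set_option linter.style.haveILetI false
set_option backward.isDefEq.respectTransparency false
set_option backward.isDefEq.respectTransparency.types false

universe u

open CategoryTheory CategoryTheory.Limits AlgebraicGeometry Opposite

noncomputable section

namespace Groth.L12.Algz

open Formal (smulMod smulFamily modPow modPowπ)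
open Groth.L16

section Pullback

variable {A : Type u} [CommRing A] {X Z : Scheme.{u}} [X.Over (Spec (CommRingCat.of A))]
  [Z.Over (Spec (CommRingCat.of A))] (i : Z ⟶ X)
  (hi : i ≫ (X ↘ Spec (CommRingCat.of A)) = Z ↘ Spec (CommRingCat.of A)) {I : Ideal A}

include hi in
/-- Pullbacks of coherent formal modules along any morphism. -/
theorem isCohFormal_pullback_any [IsNoetherianRing A] [AlgebraicGeometry.IsNoetherian X] {G : ℕᵒᵖ ⥤ X.Modules}
    (hG : Formal.IsCohFormal I G) : Formal.IsCohFormal I (G ⋙ Scheme.Modules.pullback i) := by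
  let P := Scheme.Modules.pullback i
  let adj := Scheme.Modules.pullbackPushforwardAdjunction i
  haveI : P.Additive := adj.left_adjoint_additive
  refine ⟨fun n => ?_, fun n b hb => ?_, fun n => ?_⟩
  · haveI : Coh.IsQCoh (G.obj (op n)) := (hG.1 n).1
    exact ⟨Groth.L16.AffineBC.isQCoh_pullback i _, Groth.L20.ResDescent.isFT_pullback i _ (hG.1 n).2⟩
  · show smulMod A (P.obj (G.obj (op n))) b = 0
    rw [← Exist.pullback_smulMod i hi, hG.2.1 n b hb, Functor.map_zero]
  · obtain ⟨h0, hiso⟩ := hG.2.2 n
    obtain ⟨θ, hθ⟩ := Existence.exists_pullback_modPowIso (I := I) i hi (G.obj (op (n + 1))) (n + 1)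
    let δ : modPow I (n + 1) (G.obj (op (n + 1))) ⟶ G.obj (op n) := cokernel.desc _ _ h0
    haveI : IsIso δ := hiso
    have h1 : smulFamily (I ^ (n + 1)) (P.obj (G.obj (op (n + 1)))) ≫
        P.map (G.map (homOfLE (Nat.le_succ n)).op) = 0 := by
      apply Sigma.hom_ext
      intro b
      rw [comp_zero, smulFamily, Sigma.ι_desc_assoc, ← Exist.pullback_smulMod i hi, ← Functor.map_comp,
        Rees.smulMod_naturality, hG.2.1 n b b.2, comp_zero, Functor.map_zero]
    refine ⟨h1, ?_⟩
    haveI := Existence.epi_modPowπ I (n + 1) (P.obj (G.obj (op (n + 1))))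
    have : cokernel.desc (smulFamily (I ^ (n + 1)) (P.obj (G.obj (op (n + 1))))) _ h1 = θ.hom ≫ P.map δ := by
      refine (cancel_epi (modPowπ I (n + 1) (P.obj (G.obj (op (n + 1)))))).1 ((cokernel.π_desc _ _ h1).trans ?_)
      rw [reassoc_of% hθ, ← Functor.map_comp]
      exact congrArg P.map (cokernel.π_desc _ _ h0).symm
    show IsIso (cokernel.desc _ _ h1)
    rw [this]
    infer_instance

end Pullback

section BC

variable {X S X' S' : Scheme.{u}} (f : X ⟶ S) (g : S' ⟶ S) (g' : X' ⟶ X) (f' : X' ⟶ S') (w : g' ≫ f = f' ≫ g)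

/-- The base change transformation of direct images. -/
def bcNat : Scheme.Modules.pushforward f ⋙ Scheme.Modules.pullback g ⟶
    Scheme.Modules.pullback g' ⋙ Scheme.Modules.pushforward f' where
  app F := ((Scheme.Modules.pullbackPushforwardAdjunction g).homEquiv _ _).symm
    (Groth.L17.DegZero.vMap f g g' f' w F)
  naturality F F' φ := by
    show (Scheme.Modules.pullback g).map ((Scheme.Modules.pushforward f).map φ) ≫ _ =
      _ ≫ (Scheme.Modules.pushforward f').map ((Scheme.Modules.pullback g').map φ)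
    refine ((Adjunction.homEquiv_naturality_left_symm _ _ _).symm.trans ?_).trans
      (Adjunction.homEquiv_naturality_right_symm _ _ _)
    congr 1
    simp only [Groth.L17.DegZero.vMap, Category.assoc]
    rw [← Functor.map_comp_assoc, show φ ≫ (Scheme.Modules.pullbackPushforwardAdjunction g').unit.app F' = _ from
      (Scheme.Modules.pullbackPushforwardAdjunction g').unit.naturality φ, Functor.map_comp_assoc]
    congr 1
    have h1 := (Scheme.Modules.pushforwardComp g' f).hom.naturality ((Scheme.Modules.pullback g').map φ)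
    have h2 := (Scheme.Modules.pushforwardCongr w).hom.naturality ((Scheme.Modules.pullback g').map φ)
    have h3 := (Scheme.Modules.pushforwardComp f' g).inv.naturality ((Scheme.Modules.pullback g').map φ)
    simp only [Functor.comp_map] at h1 h2 h3 ⊢
    rw [reassoc_of% h1, reassoc_of% h2, h3]

end BC

section Flat

variable (A : Type u) [CommRing A] (U : (Spec (CommRingCat.of A)).Opens)

/-- The system of section modules is the system of direct images. -/
theorem nonempty_sectSys_iso (hU : IsCompact (U : Set (Spec (CommRingCat.of A))))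
    (G : ℕᵒᵖ ⥤ (U : Scheme.{u}).Modules) (hG : ∀ n, Coh.IsQCoh (G.obj (op n))) :
    Nonempty (_root_.Algz.sectSys A U G ≅ G ⋙ Scheme.Modules.pushforward U.ι) := by
  let P := Scheme.Modules.pushforward U.ι
  let α : _root_.Algz.sectSys A U G ⟶ G ⋙ P :=
    Functor.whiskerLeft (G ⋙ P) (Scheme.Modules.fromTildeΓNatTrans (R := CommRingCat.of A))
  haveI : ∀ k, IsIso (α.app k) := fun k => by
    haveI : Coh.IsQCoh (P.obj (G.obj k)) :=
      @Groth.L03.QcOpenExtend.isQCoh_push_ι (CommRingCat.of A) U hU _ (hG k.unop)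
    exact Scheme.Modules.isIso_fromTildeΓ_of_isQuasicoherent (P.obj (G.obj k))
  haveI : IsIso α := NatIso.isIso_of_isIso_app α
  exact ⟨asIso α⟩

variable [IsNoetherianRing A] {A' : Type u} [CommRing A'] (φ : A →+* A')

theorem canonicallyExtends_flat (hφ : φ.Flat) {I : Ideal A} {G : ℕᵒᵖ ⥤ (U : Scheme.{u}).Modules}
    (hG : Formal.IsCohFormal I G) (h : _root_.Algz.CanonicallyExtends A I U G) :
    _root_.Algz.CanonicallyExtends A' (I.map φ) (Spec.map (CommRingCat.ofHom φ) ⁻¹ᵁ U)
      (G ⋙ Scheme.Modules.pullback (morphismRestrict (Spec.map (CommRingCat.ofHom φ)) U)) := by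
  haveI : IsNoetherianRing (CommRingCat.of A) := ‹IsNoetherianRing A›
  haveI : TopologicalSpace.NoetherianSpace (Spec (CommRingCat.of A)) :=
    inferInstanceAs (TopologicalSpace.NoetherianSpace (PrimeSpectrum A))
  let f := Spec.map (CommRingCat.ofHom φ)
  let V := f ⁻¹ᵁ U
  let g := morphismRestrict f U
  have hU : IsCompact (U : Set (Spec (CommRingCat.of A))) := TopologicalSpace.NoetherianSpace.isCompact _
  have hV : IsCompact (V : Set (Spec (CommRingCat.of A'))) := f.isCompact_preimage hU
  haveI : Flat f := AlgebraicGeometry.Flat.SpecMap_iff.2 hφ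
  haveI : QuasiCompact U.ι := Groth.L17.Approx.quasiCompact_ι U hU
  obtain ⟨G', hG', hp⟩ := h
  letI : (Spec (CommRingCat.of A)).Over (Spec (CommRingCat.of A)) := ⟨𝟙 _⟩
  letI : (Spec (CommRingCat.of A')).Over (Spec (CommRingCat.of A)) := ⟨f⟩
  letI : (Spec (CommRingCat.of A')).Over (Spec (CommRingCat.of A')) := ⟨𝟙 _⟩
  refine ⟨G' ⋙ Scheme.Modules.pullback f,
    isCohFormal_base φ (X := Spec (CommRingCat.of A')) (Category.id_comp _) I
      (isCohFormal_pullback_any f (Category.comp_id _) hG'), ?_⟩
  obtain ⟨e⟩ := nonempty_sectSys_iso A U hU G fun n => (hG.1 n).1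
  obtain ⟨e'⟩ := nonempty_sectSys_iso A' V hV (G ⋙ Scheme.Modules.pullback g) fun n => by
    haveI : Coh.IsQCoh (G.obj (op n)) := (hG.1 n).1
    exact Groth.L16.AffineBC.isQCoh_pullback g _
  let θ := Functor.whiskerLeft G (bcNat U.ι f g V.ι (morphismRestrict_ι f U))
  haveI : ∀ k, IsIso (θ.app k) := fun k => by
    haveI : Coh.IsQCoh (G.obj k) := (hG.1 k.unop).1
    exact Groth.L17.DegZero.isIso_of_flat U.ι f g V.ι (G.obj k) (isPullback_morphismRestrict f U)
  haveI : IsIso θ := NatIso.isIso_of_isIso_app θ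
  exact isProIsomorphic_of_iso
    (e' ≪≫ (Functor.associator _ _ _) ≪≫ (asIso θ).symm ≪≫ (Functor.associator _ _ _).symm ≪≫
      Functor.isoWhiskerRight e.symm _)
    (Iso.refl _) (isProIsomorphic_map (Scheme.Modules.pullback f) hp)

end Flat

end Groth.L12.Algz
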