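import Groth.Agent.L12.Algz.Extend
import Groth.Agent.L12.Algz.ProML
import Groth.Agent.L16.Exist.Alg

/-! Limits of pro-isomorphic systems; sections over `Spec A` of coherent formal modules. -/

set_option autoImplicit false
set_option linter.style.haveILetI false
set_option backward.isDefEq.respectTransparency false
set_option backward.isDefEq.respectTransparency.types false

universe v v' u u'

open CategoryTheory CategoryTheory.Limits AlgebraicGeometry Opposite

noncomputable section

namespace Groth.L12.Algz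

open Groth.L16
open AffineBC (scal)

section Pro

variable {C : Type u'} [Category.{v} C]

/-- Pro-isomorphic systems have the same limit. -/
theorem exists_limit_iso (X Y : ARSys.PS C) [HasLimit X] [HasLimit Y] (h : _root_.Algz.IsProIsomorphic X Y) :
    ∃ (Φ : limit X ≅ limit Y) (m : ℕ → ℕ) (a : ∀ k, X.obj (op (m k)) ⟶ Y.obj (op k)),
      ∀ k, Φ.hom ≫ limit.π Y (op k) = limit.π X (op (m k)) ≫ a k := by
  obtain ⟨m, hm, hle, a, ha⟩ := h
  have hX : ∀ {p q : ℕ} (h : p ≤ q), limit.π X (op q) ≫ ARSys.tr X h = limit.π X (op p) := fun h => limit.w X _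
  have hY : ∀ {p q : ℕ} (h : p ≤ q), limit.π Y (op q) ≫ ARSys.tr Y h = limit.π Y (op p) := fun h => limit.w Y _
  let a' : ∀ k, X.obj (op (m k)) ⟶ Y.obj (op k) := fun k => a.app (op k)
  have hnat : ∀ {p q : ℕ} (h : p ≤ q), a' q ≫ ARSys.tr Y h = ARSys.tr X (hm h) ≫ a' p :=
    fun {p q} h => (a.naturality (homOfLE h).op).symm
  choose M hM b hb₁ hb₂ using fun k =>
    (show ∃ (M : ℕ) (h : k ≤ M) (b : Y.obj (op M) ⟶ X.obj (op (m k))),
      a' M ≫ b = ARSys.tr X (hm h) ∧ b ≫ a' k = ARSys.tr Y h from ha k)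
  have key : ∀ k L (hL : M k ≤ L), limit.π Y (op (M k)) ≫ b k =
      limit.π Y (op (M L)) ≫ b L ≫ ARSys.tr X (hm ((hM k).trans hL)) := fun k L hL => by
    rw [← hY (hL.trans (hM L)), Category.assoc, ← tr_tr Y hL (hM L), ← hb₂ L, Category.assoc, Category.assoc,
      reassoc_of% (hnat hL), hb₁ k, tr_tr X]
  let c : Cone X :=
    { pt := limit Y
      π := { app := fun n => limit.π Y (op (M n.unop)) ≫ b n.unop ≫ ARSys.tr X (hle n.unop)
             naturality := by
              rintro ⟨q⟩ ⟨p⟩ f
              have hpq : p ≤ q := leOfHom f.unop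
              show 𝟙 _ ≫ limit.π Y (op (M p)) ≫ b p ≫ ARSys.tr X (hle p) =
                (limit.π Y (op (M q)) ≫ b q ≫ ARSys.tr X (hle q)) ≫ X.map f
              rw [Category.id_comp, show f = (homOfLE hpq).op from rfl]
              rw [reassoc_of% (key p (max (M p) (M q)) (le_max_left _ _)),
                reassoc_of% (key q (max (M p) (M q)) (le_max_right _ _))]
              simp only [Category.assoc, tr_tr] } }
  let Φ : limit Y ⟶ limit X := limit.lift X c
  let c' : Cone Y :=
    { pt := limit X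
      π := { app := fun n => limit.π X (op (m n.unop)) ≫ a' n.unop
             naturality := by
              rintro ⟨q⟩ ⟨p⟩ f
              have hpq : p ≤ q := leOfHom f.unop
              show 𝟙 _ ≫ limit.π X (op (m p)) ≫ a' p = (limit.π X (op (m q)) ≫ a' q) ≫ Y.map f
              rw [Category.id_comp, show f = (homOfLE hpq).op from rfl, Category.assoc, hnat hpq,
                reassoc_of% (hX (hm hpq))] } }
  let Ψ : limit X ⟶ limit Y := limit.lift Y c'
  have hΨ : ∀ k, Ψ ≫ limit.π Y (op k) = limit.π X (op (m k)) ≫ a' k := fun k => limit.lift_π _ _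
  have hΦ : ∀ k, Φ ≫ limit.π X (op k) = limit.π Y (op (M k)) ≫ b k ≫ ARSys.tr X (hle k) := fun k =>
    limit.lift_π _ _
  refine ⟨⟨Ψ, Φ, limit.hom_ext fun n => ?_, limit.hom_ext fun n => ?_⟩, m, a', hΨ⟩
  · obtain ⟨k⟩ := n
    rw [Category.assoc, hΦ, reassoc_of% (hΨ (M k)), reassoc_of% (hb₁ k), Category.id_comp,
      reassoc_of% (hX (hm (hM k))), hX (hle k)]
  · obtain ⟨k⟩ := n
    rw [Category.assoc, hΨ, reassoc_of% (hΦ (m k)), Category.id_comp]
    have hk : M k ≤ max (M k) (M (m k)) := le_max_left _ _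
    have hmk : M (m k) ≤ max (M k) (M (m k)) := le_max_right _ _
    have e1 : limit.π Y (op (M (m k))) ≫ b (m k) ≫ ARSys.tr X (hle (m k)) = limit.π Y (op (M k)) ≫ b k := by
      rw [key k _ hk, reassoc_of% (key (m k) _ hmk), tr_tr]
    rw [reassoc_of% e1, hb₂ k, hY]

end Pro

section Gen

/-- The limit topology of an adic system of finite modules is adic. -/
theorem ker_limit_π_le_of {A : Type u} [CommRing A] [IsNoetherianRing A] {I : Ideal A} (M : ℕᵒᵖ ⥤ ModuleCat.{u} A)
    [∀ n, Module.Finite A (M.obj (op n))] (hk : ∀ n, ∀ b ∈ I ^ (n + 1), ∀ x : M.obj (op n), b • x = 0)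
    (hsurj : ∀ n, Function.Surjective (M.map (homOfLE (Nat.le_succ n)).op).hom)
    (hker : ∀ n x, (M.map (homOfLE (Nat.le_succ n)).op).hom x = 0 →
      x ∈ I ^ (n + 1) • (⊤ : Submodule A (M.obj (op (n + 1))))) (n : ℕ) :
    LinearMap.ker (limit.π M (op n)).hom ≤ I ^ (n + 1) • (⊤ : Submodule A ↑(limit M)) := by
  let f : ∀ n, M.obj (op (n + 1)) →ₗ[A] M.obj (op n) := fun n => (M.map (homOfLE (Nat.le_succ n)).op).hom
  intro y hy
  let N := Exist.lim (fun n => M.obj (op n)) f
  let c : Cone M :=
    { pt := ModuleCat.of A N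
      π := { app := fun k => (ModuleCat.ofHom ((LinearMap.proj (φ := fun n => M.obj (op n)) k.unop).comp N.subtype) : ModuleCat.of A N ⟶ M.obj (op k.unop))
             naturality := by
              rintro ⟨q⟩ ⟨p⟩ g
              have hpq : p ≤ q := leOfHom g.unop
              rw [show g = (homOfLE hpq).op from rfl]
              show 𝟙 _ ≫ _ = _
              rw [Category.id_comp]
              clear g
              induction q, hpq using Nat.le_induction with
              | base =>
                rw [show (homOfLE (le_refl p)).op = 𝟙 (op p) from rfl, CategoryTheory.Functor.map_id, Category.comp_id]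
              | succ q hpq ih =>
                rw [show (homOfLE (hpq.trans (Nat.le_succ q))).op =
                  (homOfLE (Nat.le_succ q)).op ≫ (homOfLE hpq).op from rfl, M.map_comp, ← Category.assoc, ih]
                congr 1
                exact ModuleCat.hom_ext (LinearMap.ext fun z => (z.2 q).symm) } }
  let z : ∀ k, M.obj (op k) := fun k => (limit.π M (op k)).hom y
  have hz : z ∈ N := fun k => ConcreteCategory.congr_hom (limit.w M (homOfLE (Nat.le_succ k)).op) y
  have h0 := Exist.mem_pow_smul_lim I (fun n => M.obj (op n)) f hk hsurj hker n hz (LinearMap.mem_ker.1 hy)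
  have hy' : (limit.lift M c).hom ⟨z, hz⟩ = y := Concrete.limit_ext M _ _ fun k => by
    rw [← ConcreteCategory.comp_apply, limit.lift_π]
    rfl
  have h1 : (⟨z, hz⟩ : N) ∈ I ^ (n + 1) • (⊤ : Submodule A N) := by
    rw [← Submodule.comap_map_eq_of_injective N.injective_subtype (I ^ (n + 1) • (⊤ : Submodule A N)),
      Submodule.mem_comap, Submodule.map_smul'', Submodule.map_top, Submodule.range_subtype]
    exact h0
  have h2 := Submodule.mem_map_of_mem (f := (limit.lift M c).hom) h1
  rw [hy', Submodule.map_smul''] at h2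
  exact Submodule.smul_mono le_rfl le_top h2

end Gen

section Spec

variable (A : Type u) [CommRing A] {I : Ideal A}

local instance overSpec : (Spec (CommRingCat.of A)).Over (Spec (CommRingCat.of A)) := ⟨𝟙 _⟩

theorem scal_surjective : Function.Surjective (scal A (Spec (CommRingCat.of A)) ⊤) := by
  intro s
  refine ⟨(Scheme.ΓSpecIso (CommRingCat.of A)).hom s, ?_⟩
  show (Spec (CommRingCat.of A)).presheaf.map (homOfLE le_top).op
    ((𝟙 (Spec (CommRingCat.of A)) : _ ⟶ _).appTop ((Scheme.ΓSpecIso (CommRingCat.of A)).inv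
      ((Scheme.ΓSpecIso (CommRingCat.of A)).hom s))) = s
  rw [show (homOfLE le_top : (⊤ : (Spec (CommRingCat.of A)).Opens) ⟶ ⊤) = 𝟙 _ from rfl, op_id,
    CategoryTheory.Functor.map_id, Scheme.Hom.id_appTop]
  exact ConcreteCategory.congr_hom (Scheme.ΓSpecIso (CommRingCat.of A)).hom_inv_id s

/-- A coherent formal module on `Spec A` gives a system of finite modules. -/
theorem section_spec [IsNoetherianRing A] {G : ℕᵒᵖ ⥤ (Spec (CommRingCat.of A)).Modules}
    (hG : Formal.IsCohFormal I G) :
    let M : ℕᵒᵖ ⥤ ModuleCat.{u} A := G ⋙ moduleSpecΓFunctor (R := CommRingCat.of A)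
    (∀ n, Module.Finite A (M.obj (op n))) ∧ (∀ n, ∀ b ∈ I ^ (n + 1), ∀ x : M.obj (op n), b • x = 0) ∧
      (∀ n, Function.Surjective (M.map (homOfLE (Nat.le_succ n)).op).hom) ∧
      ∀ n x, (M.map (homOfLE (Nat.le_succ n)).op).hom x = 0 →
        x ∈ I ^ (n + 1) • (⊤ : Submodule A (M.obj (op (n + 1)))) := by
  haveI : IsNoetherianRing (CommRingCat.of A) := ‹IsNoetherianRing A›
  intro M
  obtain ⟨h1, h2, h3⟩ := Exist.sect_spec hG (⊤ : (Spec (CommRingCat.of A)).Opens) (isAffineOpen_top _)
  refine ⟨fun n => ?_, fun n b hb x => ?_, fun n => h2 n, fun n x hx => ?_⟩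
  · obtain ⟨t, ht⟩ := (h1 n).fg_top
    refine ⟨⟨t, eq_top_iff.2 fun x _ => ?_⟩⟩
    suffices H : ∀ y : Γ(G.obj (op n), ⊤), y ∈ Submodule.span Γ(Spec (CommRingCat.of A), ⊤) (t : Set Γ(G.obj (op n), ⊤)) →
        (show M.obj (op n) from y) ∈ Submodule.span A (show Set (M.obj (op n)) from (↑t : Set Γ(G.obj (op n), ⊤))) from
      H (show Γ(G.obj (op n), ⊤) from x) (ht ▸ Submodule.mem_top)
    intro y hy
    induction hy using Submodule.span_induction with
    | mem y hy => exact Submodule.subset_span hy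
    | zero => exact Submodule.zero_mem _
    | add y z _ _ hy hz => exact Submodule.add_mem _ hy hz
    | smul c y _ hy =>
      obtain ⟨a, rfl⟩ := scal_surjective A c
      exact Submodule.smul_mem _ a hy
  · exact Exist.sect_killed hG ⊤ n (scal A (Spec (CommRingCat.of A)) ⊤ b)
      (by rw [← Ideal.map_pow]; exact Ideal.mem_map_of_mem _ hb) x
  · have hmem := h3 n x hx
    rw [← Ideal.map_pow] at hmem
    refine Submodule.smul_induction_on hmem (fun c hc y _ => ?_) fun y z hy hz => Submodule.add_mem _ hy hz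
    obtain ⟨a, ha, rfl⟩ := (Ideal.mem_map_iff_of_surjective _ (scal_surjective A)).1 hc
    exact Submodule.smul_mem_smul ha (Submodule.mem_top : (show M.obj (op (n + 1)) from y) ∈ ⊤)

/-- On the limit of sections of a coherent formal module the limit topology is adic. -/
theorem ker_limit_π_le [IsNoetherianRing A] {G : ℕᵒᵖ ⥤ (Spec (CommRingCat.of A)).Modules}
    (hG : Formal.IsCohFormal I G) (n : ℕ) :
    LinearMap.ker (limit.π (G ⋙ moduleSpecΓFunctor (R := CommRingCat.of A) : ℕᵒᵖ ⥤ ModuleCat.{u} A) (op n)).hom ≤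
      I ^ (n + 1) • (⊤ : Submodule A
        ↑(limit (G ⋙ moduleSpecΓFunctor (R := CommRingCat.of A) : ℕᵒᵖ ⥤ ModuleCat.{u} A))) := by
  obtain ⟨hfin, hk, hsurj, hker⟩ := section_spec A hG
  haveI := hfin
  exact ker_limit_π_le_of _ hk hsurj hker n

/-- For a canonically extending system the limit topology is adic. -/
theorem limit_topology [IsNoetherianRing A] (U : (Spec (CommRingCat.of A)).Opens)
    (G : ℕᵒᵖ ⥤ (U : Scheme.{u}).Modules) (h : _root_.Algz.CanonicallyExtends A I U G) (k : ℕ) :
    ∃ n : ℕ, LinearMap.ker (limit.π (_root_.Algz.sectMod A U G) (op n)).hom ≤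
      I ^ k • (⊤ : Submodule A ↑(limit (_root_.Algz.sectMod A U G))) := by
  obtain ⟨G', hG', hp⟩ := h
  have hp' : _root_.Algz.IsProIsomorphic (_root_.Algz.sectMod A U G)
      (G' ⋙ moduleSpecΓFunctor (R := CommRingCat.of A) : ℕᵒᵖ ⥤ ModuleCat.{u} A) :=
    isProIsomorphic_of_iso (Functor.isoWhiskerLeft (_root_.Algz.sectMod A U G)
      (tilde.toTildeΓNatIso (R := CommRingCat.of A))) (Iso.refl _)
      (isProIsomorphic_map (moduleSpecΓFunctor (R := CommRingCat.of A)) hp)
  obtain ⟨Φ, m, a, hΦ⟩ := exists_limit_iso _ _ hp'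
  refine ⟨m k, fun x hx => ?_⟩
  have h0 : Φ.hom.hom x ∈ LinearMap.ker (limit.π (G' ⋙ moduleSpecΓFunctor (R := CommRingCat.of A) : ℕᵒᵖ ⥤ ModuleCat.{u} A) (op k)).hom := by
    rw [LinearMap.mem_ker]
    refine (ConcreteCategory.congr_hom (hΦ k) x).trans ?_
    exact (congrArg (a k).hom (LinearMap.mem_ker.1 hx)).trans (map_zero _)
  have h1 := Submodule.mem_map_of_mem (f := Φ.inv.hom)
    (Submodule.smul_mono_left (Ideal.pow_le_pow_right (Nat.le_succ k)) (ker_limit_π_le A hG' k h0))
  rw [Submodule.map_smul'', show Φ.inv.hom (Φ.hom.hom x) = x from ConcreteCategory.congr_hom Φ.hom_inv_id x] at h1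
  exact Submodule.smul_mono le_rfl le_top h1

end Spec

end Groth.L12.Algz
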