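import Groth.Agent.L12.Algz.Epi
import Groth.Agent.L18.TildeFunctor
import Groth.Agent.L16.Rees.RelVanish
import Groth.Agent.L17.Approx.Extend
import Groth.Agent.L17.FlatBase.CxTools

/-! The map from the quotients of the module of formal sections. -/

set_option autoImplicit false
set_option linter.style.haveILetI false
set_option backward.isDefEq.respectTransparency false
set_option backward.isDefEq.respectTransparency.types false

universe u

open CategoryTheory CategoryTheory.Limits AlgebraicGeometry Opposite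

noncomputable section

namespace Groth.L12.Algz

open Groth.L16

variable {A : Type u} [CommRing A] [IsNoetherianRing A] {I : Ideal A}

theorem isCoh_quot (U : (Spec (CommRingCat.of A)).Opens) {G : ℕᵒᵖ ⥤ (U : Scheme.{u}).Modules}
    (hG : Formal.IsCohFormal I G) {M Q : ModuleCat.{u} A} {N : ℕ} (π : M ⟶ (_root_.Algz.sectMod A U G).obj (op N))
    (q : M ⟶ Q) (hq : Function.Surjective q.hom) (h : LinearMap.ker π.hom ≤ LinearMap.ker q.hom) :
    Coh.IsCoh ((Scheme.Modules.restrictFunctor U.ι).obj ((Til A).obj Q)) := by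
  haveI : IsNoetherianRing (CommRingCat.of A) := ‹IsNoetherianRing A›
  haveI : TopologicalSpace.NoetherianSpace (Spec (CommRingCat.of A)) :=
    inferInstanceAs (TopologicalSpace.NoetherianSpace (PrimeSpectrum A))
  obtain ⟨e⟩ := nonempty_restrict_sectSys_iso A U (TopologicalSpace.NoetherianSpace.isCompact _) G
    fun k => (hG.1 k).1
  let R := Scheme.Modules.restrictFunctor U.ι
  let P := ModuleCat.of A (LinearMap.range π.hom)
  let p : M ⟶ P := ModuleCat.ofHom π.hom.rangeRestrict
  let ι : P ⟶ _ := ModuleCat.ofHom (LinearMap.range π.hom).subtype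
  obtain ⟨q', hq'⟩ := exists_factor_ker p q π.hom.surjective_rangeRestrict (by
    rw [show p.hom = π.hom.rangeRestrict from rfl, LinearMap.ker_rangeRestrict]; exact h)
  haveI : Mono ι := (ModuleCat.mono_iff_injective _).2 Subtype.val_injective
  haveI : Epi q' := by
    rw [ModuleCat.epi_iff_surjective]
    intro y
    obtain ⟨x, rfl⟩ := hq y
    exact ⟨p.hom x, ConcreteCategory.congr_hom hq' x⟩
  haveI : PreservesFiniteLimits (tilde.functor (CommRingCat.of A)) :=
    Groth.L18.TildeF.tilde_preservesFiniteLimits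
  haveI : PreservesFiniteLimits (Scheme.Modules.pullback U.ι) :=
    Groth.L17.CxTools.preservesFiniteLimits_pullback _
  haveI : PreservesFiniteLimits R :=
    preservesFiniteLimits_of_natIso (Scheme.Modules.restrictFunctorIsoPullback U.ι).symm
  haveI : R.IsLeftAdjoint := (Scheme.Modules.restrictAdjunction U.ι).isLeftAdjoint
  haveI : Mono ((Til A).map ι) := (tilde.functor (CommRingCat.of A)).map_mono ι
  haveI : Mono (R.map ((Til A).map ι)) := R.map_mono _
  haveI : Epi ((Til A).map q') := (Til A).map_epi q'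
  haveI : Epi (R.map ((Til A).map q')) := R.map_epi _
  haveI hP : Coh.IsQCoh (R.obj ((Til A).obj P)) :=
    Groth.L03.QcOpenExtend.isQCoh_restrict_tilde (A := CommRingCat.of A) U P
  haveI : Mono (R.map ((Til A).map ι) ≫ e.hom.app (op N)) := mono_comp _ _
  have hc : Coh.IsCoh (R.obj ((Til A).obj P)) :=
    Rees.RelVanish.isCoh_of_mono (R.map ((Til A).map ι) ≫ e.hom.app (op N)) (hG.1 N)
  exact ⟨Groth.L03.QcOpenExtend.isQCoh_restrict_tilde (A := CommRingCat.of A) U Q,
    Groth.L17.Approx.isFT_of_epi (R.map ((Til A).map q')) hc.2⟩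

/-- The key computation on a basic open. -/
theorem tilde_section_eq_zero {R : CommRingCat.{u}} {Q Q' P : ModuleCat.{u} R} (t : Q ⟶ Q') (l : Q ⟶ P)
    (h : LinearMap.ker l.hom ≤ LinearMap.ker t.hom) (f : R)
    (x : Γ(tilde Q, (PrimeSpectrum.basicOpen f : (Spec R).Opens)))
    (hx : (tilde.map l).app (PrimeSpectrum.basicOpen f) x = 0) :
    (tilde.map t).app (PrimeSpectrum.basicOpen f) x = 0 := by
  let D : (Spec R).Opens := PrimeSpectrum.basicOpen f
  obtain ⟨⟨z, s⟩, hz⟩ := IsLocalizedModule.surj (Submonoid.powers f) (tilde.toOpen Q D).hom x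
  change s • x = (tilde.toOpen Q D).hom z at hz
  have hl : (tilde.toOpen P D).hom (l.hom z) = 0 := by
    have h1 := ConcreteCategory.congr_hom (tilde.toOpen_map_app l D) z
    refine h1.symm.trans ?_
    show ((modulesSpecToSheaf.map (tilde.map l)).1.app (op D)).hom ((tilde.toOpen Q D).hom z) = 0
    rw [← hz, Submonoid.smul_def, map_smul]
    exact (congrArg ((s : R) • ·) hx).trans (smul_zero _)
  obtain ⟨c, hc⟩ := (IsLocalizedModule.eq_zero_iff (Submonoid.powers f) (tilde.toOpen P D).hom).1 hl
  have hcz : c • t.hom z = 0 := by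
    rw [Submonoid.smul_def, ← map_smul]
    refine LinearMap.mem_ker.1 (h (LinearMap.mem_ker.2 ?_))
    rw [map_smul, ← Submonoid.smul_def, hc]
  have h2 : (tilde.toOpen Q' D).hom (t.hom z) = 0 :=
    (IsLocalizedModule.eq_zero_iff (Submonoid.powers f) (tilde.toOpen Q' D).hom).2 ⟨c, hcz⟩
  have h3 : ((modulesSpecToSheaf.map (tilde.map t)).1.app (op D)).hom ((tilde.toOpen Q D).hom z) = 0 :=
    (ConcreteCategory.congr_hom (tilde.toOpen_map_app t D) z).trans h2
  rw [← hz, Submonoid.smul_def, map_smul] at h3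
  exact (IsLocalizedModule.smul_inj (S := Submonoid.powers f) (tilde.toOpen Q' D).hom s _ _).1
    (h3.trans (smul_zero (s : R)).symm)

/-- The family of quotients maps injectively on sections over basic opens. -/
theorem sections_eq_zero (U : (Spec (CommRingCat.of A)).Opens) {G : ℕᵒᵖ ⥤ (U : Scheme.{u}).Modules}
    (hG : Formal.IsCohFormal I G) (M : Type u) [AddCommGroup M] [Module A M]
    (π : ∀ k, ModuleCat.of A M ⟶ (_root_.Algz.sectMod A U G).obj (op k))
    (hb : ∀ k : ℕ, ∃ n : ℕ, k ≤ n + 1 ∧ LinearMap.ker (π n).hom ≤ I ^ k • (⊤ : Submodule A M))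
    (ℓ : ∀ n, ModuleCat.of A (Formal2.quotPow A I M n) ⟶ (_root_.Algz.sectMod A U G).obj (op n))
    (hℓ : ∀ n, ModuleCat.ofHom (Formal2.quotPowπ A I M n) ≫ ℓ n = π n) (f : A)
    (x : ∀ n, (Scheme.Modules.presheaf (Formal2.tmod A (Formal2.quotPow A I M n))).obj
      (op (PrimeSpectrum.basicOpen f : (Spec (CommRingCat.of A)).Opens)))
    (hx : ∀ n, Scheme.Modules.Hom.app (Formal2.tmodMap A (Formal2.quotPowTrans A I M n))
      (PrimeSpectrum.basicOpen f : (Spec (CommRingCat.of A)).Opens) (x (n + 1)) = x n)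
    (h0 : ∀ n, Scheme.Modules.Hom.app
      (((tilde.adjunction (R := CommRingCat.of A)).homEquiv (ModuleCat.of A (Formal2.quotPow A I M n))
        ((Scheme.Modules.pushforward U.ι).obj (G.obj (op n)))).symm (ℓ n))
      (PrimeSpectrum.basicOpen f : (Spec (CommRingCat.of A)).Opens) (x n) = 0) (n : ℕ) : x n = 0 := by
  let D : (Spec (CommRingCat.of A)).Opens := PrimeSpectrum.basicOpen f
  obtain ⟨N, hnN, hN⟩ := hb (n + 1)
  replace hnN : n ≤ N := Nat.le_of_succ_le_succ hnN
  have hcompat : ∀ m (h : n ≤ m), Scheme.Modules.Hom.app ((Til A).map (ARSys.tr (quotSys I M) h)) D (x m) = x n := by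
    intro m h
    induction m, h using Nat.le_induction with
    | base =>
      rw [ARSys.tr, show (homOfLE (le_refl n)).op = 𝟙 (op n) from rfl, CategoryTheory.Functor.map_id,
        CategoryTheory.Functor.map_id]
      rfl
    | succ m hm ih =>
      rw [← tr_tr (quotSys I M) hm (Nat.le_succ m), Functor.map_comp]
      refine Eq.trans ?_ ih
      refine congrArg (Scheme.Modules.Hom.app ((Til A).map (ARSys.tr (quotSys I M) hm)) D) ?_
      rw [ARSys.tr, Functor.ofOpSequence_map_homOfLE_succ]
      exact hx m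
  rw [← hcompat N hnN]
  refine tilde_section_eq_zero (R := CommRingCat.of A) (ARSys.tr (quotSys I M) hnN) (ℓ N) ?_ f (x N) ?_
  · intro q hq
    obtain ⟨z, rfl⟩ := Submodule.Quotient.mk_surjective _ q
    refine LinearMap.mem_ker.2 ((quotSys_tr_mk M hnN z).trans ((Submodule.Quotient.mk_eq_zero _).2 (hN ?_)))
    exact LinearMap.mem_ker.2 ((ConcreteCategory.congr_hom (hℓ N) z).symm.trans (LinearMap.mem_ker.1 hq))
  · haveI := isIso_fromTildeΓ_push U (G.obj (op N)) (hG.1 N).1
    have hcomp : ((tilde.adjunction (R := CommRingCat.of A)).homEquiv (ModuleCat.of A (Formal2.quotPow A I M N))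
        ((Scheme.Modules.pushforward U.ι).obj (G.obj (op N)))).symm (ℓ N) =
        tilde.map (R := CommRingCat.of A) (ℓ N) ≫
          Scheme.Modules.fromTildeΓ (R := CommRingCat.of A) ((Scheme.Modules.pushforward U.ι).obj (G.obj (op N))) :=
      Adjunction.homEquiv_counit _ _ _ _
    have h1 := h0 N
    rw [hcomp, Scheme.Modules.Hom.comp_app] at h1
    have hinj := (ConcreteCategory.bijective_of_isIso ((Scheme.Modules.fromTildeΓ (R := CommRingCat.of A)
      ((Scheme.Modules.pushforward U.ι).obj (G.obj (op N)))).app D)).1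
    exact hinj (h1.trans (map_zero _).symm)

end Groth.L12.Algz
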