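import Groth.Prelude.Def_Algz
import Groth.Agent.L16.Existence.FormalBasic

/-! Morphisms of pro-systems between coherent formal modules. -/

set_option autoImplicit false
set_option backward.isDefEq.respectTransparency false
set_option backward.isDefEq.respectTransparency.types false

universe u

open CategoryTheory CategoryTheory.Limits AlgebraicGeometry Opposite

noncomputable section

namespace Groth.L12.Algz

open Formal (smulMod)
open Groth.L16.Existence (tr tr_self tr_comp exists_desc epi_tr)

variable {A : Type u} [CommRing A] {X : Scheme.{u}} [X.Over (Spec (CommRingCat.of A))] {I : Ideal A}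
  {F G : ℕᵒᵖ ⥤ X.Modules} (hF : Formal.IsCohFormal I F)

include hF in
/-- Maps to a module killed by `I ^ (n + 1)` factor through position `n`. -/
theorem exists_factor {n j : ℕ} (h : n ≤ j) {T : X.Modules} (hT : Formal.KilledBy (I ^ (n + 1)) T)
    (f : F.obj (op j) ⟶ T) : ∃ f', tr F n j h ≫ f' = f :=
  exists_desc hF h f fun a ha => by rw [Groth.L16.Rees.smulMod_naturality, hT a ha, comp_zero]

theorem comp_map_eq_tr {i j : ℕ} (h : i ≤ j) : F.map (homOfLE h).op = tr F i j h := rfl

include hF in
/-- Full faithfulness into pro-systems. -/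
theorem existsUnique_of_reindex (hG : Formal.IsCohFormal I G) (m : ℕ → ℕ) (hm : Monotone m) (hle : ∀ n : ℕ, n ≤ m n)
    (π : DerCA.reindex F hm ⟶ F) (hπ : ∀ n : ℕ, π.app (op n) = F.map (homOfLE (hle n)).op)
    (α : DerCA.reindex F hm ⟶ G) : ∃! β : F ⟶ G, π ≫ β = α := by
  choose β hβ using fun n => exists_factor hF (hle n) (hG.2.1 n) (α.app (op n))
  have hnat : ∀ n, F.map (homOfLE (Nat.le_succ n)).op ≫ β n = β (n + 1) ≫ G.map (homOfLE (Nat.le_succ n)).op := by
    intro n
    haveI := epi_tr hF (hle (n + 1))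
    rw [← cancel_epi (tr F (n + 1) (m (n + 1)) (hle (n + 1))), reassoc_of% (hβ (n + 1))]
    refine Eq.trans ?_ (α.naturality (homOfLE (Nat.le_succ n)).op)
    rw [← hβ n, ← Category.assoc, ← Category.assoc]
    congr 1
    show tr F (n + 1) (m (n + 1)) _ ≫ tr F n (n + 1) _ = tr F (m n) (m (n + 1)) (hm (Nat.le_succ n)) ≫ tr F n (m n) _
    rw [tr_comp, tr_comp]
  refine ⟨NatTrans.ofOpSequence β hnat, NatTrans.ext (funext fun k => ?_), fun γ hγ => NatTrans.ext (funext fun k => ?_)⟩
  · obtain ⟨n⟩ := k
    rw [NatTrans.comp_app, hπ, NatTrans.ofOpSequence_app]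
    exact hβ n
  · obtain ⟨n⟩ := k
    haveI := epi_tr hF (hle n)
    rw [NatTrans.ofOpSequence_app, ← cancel_epi (tr F n (m n) (hle n)), hβ n, ← hγ, NatTrans.comp_app, hπ]

include hF in
/-- Pro-isomorphic coherent formal modules are isomorphic. -/
theorem nonempty_iso (hG : Formal.IsCohFormal I G) (h : _root_.Algz.IsProIsomorphic F G) : Nonempty (F ≅ G) := by
  obtain ⟨m, hm, hle, a, ha⟩ := h
  let π : DerCA.reindex F hm ⟶ F :=
    { app := fun k => F.map (homOfLE (hle k.unop)).op
      naturality := fun k l f => by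
        show F.map _ ≫ F.map _ = F.map _ ≫ F.map _
        rw [← Functor.map_comp, ← Functor.map_comp]
        exact congrArg F.map (Subsingleton.elim _ _) }
  obtain ⟨β, hβ, -⟩ := existsUnique_of_reindex hF hG m hm hle π (fun _ => rfl) a
  have happ : ∀ n, tr F n (m n) (hle n) ≫ β.app (op n) = a.app (op n) := fun n => by
    rw [← hβ]; rfl
  have hiso : ∀ n, IsIso (β.app (op n)) := by
    intro n
    obtain ⟨M, hM, b, hb₁, hb₂⟩ := ha n
    obtain ⟨γ, hγ⟩ := exists_factor hG hM (hF.2.1 n) (b ≫ tr F n (m n) (hle n))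
    haveI := epi_tr hG hM
    haveI := epi_tr hF ((hle n).trans (hm hM))
    refine ⟨γ, ?_, ?_⟩
    · rw [← cancel_epi (tr F n (m M) ((hle n).trans (hm hM))), Category.comp_id]
      have e1 : tr F n (m M) ((hle n).trans (hm hM)) ≫ β.app (op n) = a.app (op M) ≫ tr G n M hM := by
        rw [← tr_comp F (hle n) (hm hM), Category.assoc, happ n]
        exact a.naturality (homOfLE hM).op
      rw [← Category.assoc, e1, Category.assoc, hγ, ← Category.assoc]
      show (a.app (op M) ≫ b) ≫ _ = _
      rw [hb₁]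
      exact tr_comp F (hle n) (hm hM)
    · rw [← cancel_epi (tr G n M hM), Category.comp_id, ← Category.assoc, hγ, Category.assoc, happ n]
      exact hb₂
  haveI : ∀ k, IsIso (β.app k) := fun k => hiso k.unop
  haveI : IsIso β := NatIso.isIso_of_isIso_app β
  exact ⟨asIso β⟩

end Groth.L12.Algz
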