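import Groth.Agent.L12.Algz.Descend
import Groth.Agent.L17.FlatBase.CxTools
import Groth.Agent.S0829
import Groth.Agent.S0851
import Mathlib.RingTheory.AdicCompletion.AsTensorProduct

/-! Extension of coherent formal modules and maps with torsion kernel and cokernel. -/

set_option autoImplicit false
set_option linter.style.haveILetI false
set_option backward.isDefEq.respectTransparency false
set_option backward.isDefEq.respectTransparency.types false

universe u

open CategoryTheory CategoryTheory.Limits AlgebraicGeometry Opposite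

noncomputable section

namespace Groth.L12.Algz

open Formal (smulMod)
open Groth.L16

section Kill

variable {A : Type u} [CommRing A] {X : Scheme.{u}} [X.Over (Spec (CommRingCat.of A))]

theorem killedBy_of_iso {J : Ideal A} {M N : X.Modules} (e : M ≅ N) (h : Formal.KilledBy J M) :
    Formal.KilledBy J N := fun a ha => by
  rw [← cancel_epi e.hom, comp_zero, ← Rees.smulMod_naturality, h a ha, zero_comp]

theorem kerCoker_comp_iso {I : Ideal A} {F F' G G' : ℕᵒᵖ ⥤ X.Modules} (e : F' ≅ F) (α : F ⟶ G) (e' : G ≅ G')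
    (h : Formal2.KerCokerKilledByIPow I α) : Formal2.KerCokerKilledByIPow I (e.hom ≫ α ≫ e'.hom) := by
  obtain ⟨t, ht⟩ := h
  refine ⟨t, fun n => ⟨killedBy_of_iso ?_ (ht n).1, killedBy_of_iso ?_ (ht n).2⟩⟩
  · exact kernel.mapIso _ _ (e.app (op n)).symm (e'.app (op n)) (by simp)
  · exact cokernel.mapIso _ _ (e.app (op n)).symm (e'.app (op n)) (by simp)

variable {X' : Scheme.{u}} [X'.Over (Spec (CommRingCat.of A))] (g : X' ⟶ X)
  (hg : g ≫ (X ↘ Spec (CommRingCat.of A)) = X' ↘ Spec (CommRingCat.of A))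

include hg in
theorem kerCoker_pullback [IsNoetherianRing A] [Flat g] {I : Ideal A} {F G : ℕᵒᵖ ⥤ X.Modules} (α : F ⟶ G)
    (h : Formal2.KerCokerKilledByIPow I α) :
    Formal2.KerCokerKilledByIPow I (Functor.whiskerRight α (Scheme.Modules.pullback g)) := by
  obtain ⟨t, ht⟩ := h
  haveI := Groth.L17.CxTools.preservesFiniteLimits_pullback g
  haveI : (Scheme.Modules.pullback g).IsLeftAdjoint :=
    (Scheme.Modules.pullbackPushforwardAdjunction g).isLeftAdjoint
  exact ⟨t, fun n => ⟨killedBy_of_iso (PreservesKernel.iso (Scheme.Modules.pullback g) (α.app (op n)))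
      (killedBy_pullback g hg (ht n).1),
    killedBy_of_iso (PreservesCokernel.iso (Scheme.Modules.pullback g) (α.app (op n)))
      (killedBy_pullback g hg (ht n).2)⟩⟩

variable {A' : Type u} [CommRing A'] (φ : A →+* A') [X.Over (Spec (CommRingCat.of A'))]

theorem kerCoker_base (hc : (X ↘ Spec (CommRingCat.of A')) ≫ Spec.map (CommRingCat.ofHom φ) = X ↘ Spec (CommRingCat.of A))
    {I : Ideal A} {F G : ℕᵒᵖ ⥤ X.Modules} (α : F ⟶ G) (h : Formal2.KerCokerKilledByIPow I α) :
    Formal2.KerCokerKilledByIPow (I.map φ) α := by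
  obtain ⟨t, ht⟩ := h
  refine ⟨t, fun n => ?_⟩
  rw [← Ideal.map_pow]
  exact ⟨(killedBy_base_iff φ hc).2 (ht n).1, (killedBy_base_iff φ hc).2 (ht n).2⟩

end Kill

local instance overSA (A : Type u) [CommRing A] :
    (Spec (CommRingCat.of A)).Over (Spec (CommRingCat.of A)) := ⟨𝟙 _⟩

/-- Extension is invariant under maps with torsion kernel and cokernel. -/
theorem extends_iff_of_kerCoker {A : Type u} [CommRing A] [IsNoetherianRing A] {I : Ideal A}
    (U : (Spec (CommRingCat.of A)).Opens) {G G' : ℕᵒᵖ ⥤ (U : Scheme.{u}).Modules}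
    (hG : Formal.IsCohFormal I G) (hG' : Formal.IsCohFormal I G') (α : G ⟶ G')
    (hα : Formal2.KerCokerKilledByIPow I α) :
    _root_.Algz.Extends I U G ↔ _root_.Algz.Extends I U G' := by
  let φ := algebraMap A (AdicCompletion I A)
  haveI : IsNoetherianRing (AdicCompletion I A) := Exist.isNoetherian_completion I
  haveI : IsNoetherianRing (CommRingCat.of A) := ‹IsNoetherianRing A›
  haveI : IsNoetherianRing (CommRingCat.of (AdicCompletion I A)) := ‹IsNoetherianRing (AdicCompletion I A)›
  haveI : IsAdicComplete (I.map φ) (AdicCompletion I A) := Exist.isComplete_completion I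
  have hq := fun k => exists_evalHom I (k + 1)
  haveI : Flat (Spec.map (CommRingCat.ofHom φ)) := by
    rw [AlgebraicGeometry.Flat.SpecMap_iff]
    exact (RingHom.flat_algebraMap_iff.2 inferInstance : (algebraMap A (AdicCompletion I A)).Flat)
  haveI : Flat (gU φ U) := MorphismProperty.of_isPullback (sq_gU φ U).flip inferInstance
  let W : Scheme.{u} := ↑(fS φ ⁻¹ᵁ U)
  letI : W.Over (Spec (CommRingCat.of A)) := ⟨(fS φ ⁻¹ᵁ U).ι ≫ fS φ⟩
  haveI : IsLocallyNoetherian W := inferInstanceAs (IsLocallyNoetherian (fS φ ⁻¹ᵁ U : Scheme.{u}))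
  haveI : CompactSpace W := isCompact_iff_compactSpace.1 (TopologicalSpace.NoetherianSpace.isCompact _)
  haveI : AlgebraicGeometry.IsNoetherian W := { }
  have hP : ∀ {H : ℕᵒᵖ ⥤ (U : Scheme.{u}).Modules}, Formal.IsCohFormal I H →
      Formal.IsCohFormal (I.map φ) (H ⋙ Scheme.Modules.pullback (gU φ U)) := fun hH => by
    haveI : CompactSpace (U : Scheme.{u}) :=
      isCompact_iff_compactSpace.1 (TopologicalSpace.NoetherianSpace.isCompact _)
    haveI : AlgebraicGeometry.IsNoetherian (U : Scheme.{u}) := { }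
    exact isCohFormal_base φ (X := W) rfl I (Exist.isCohFormal_pullback I (gU φ U) (gU_over φ U) hH)
  have hk := kerCoker_base φ (X := W) rfl _ (kerCoker_pullback (gU φ U) (gU_over φ U) α hα)
  constructor
  · intro h
    obtain ⟨F', hF', ⟨e⟩⟩ := completion_of_extends φ U h
    obtain ⟨E, -, β, hE, -, -⟩ := Groth.Agent.S0851.result _ (I.map φ) W F' hF' _ (hP hG') _
      (kerCoker_comp_iso e _ (Iso.refl _) hk)
    exact extends_of_completion φ U hq hG' hE β
  · intro h
    obtain ⟨F', hF', ⟨e⟩⟩ := completion_of_extends φ U h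
    obtain ⟨E, -, β, hE, -, -⟩ := Groth.Agent.S0829.result _ (I.map φ) W F' hF' _ (hP hG) _
      (kerCoker_comp_iso (Iso.refl _) _ e.symm hk)
    exact extends_of_completion φ U hq hG hE β.symm

end Groth.L12.Algz
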